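import Cfsg.Agent.Lib.MinusTwelve.Defs
import Cfsg.Agent.Lib.MinusTwelve.Proper

/-!
helper29: blocks of an irreducible maximal subgroup for a form of minus type in dimension twelve are three minus 4-spaces.
-/

set_option autoImplicit false
set_option linter.unusedSectionVars false

namespace Cfsg.Agent.Lib.MinusTwelve

open Matrix Module Cfsg.Geo
open Cfsg.Agent.Lib.MaxSub
open QuadraticMap (polarBilin)
open Cfsg.Agent.Lib.TwoPrimeDim (img mem_img_idem)
open scoped MatrixGroups Matrix

attribute [-simp] QuadraticMap.polarBilin_apply_apply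

variable {F : Type*} [Field F] [Fintype F] {Q : QuadraticForm F (Fin 12 → F)}

local notation "MM" => Matrix (Fin 12) (Fin 12) F
local notation "VV" => (Fin 12 → F)
local notation "GG" => Matrix.GeneralLinearGroup (Fin 12) F

theorem polar_comm' (u v : VV) : polarBilin Q u v = polarBilin Q v u := by
  simp only [QuadraticMap.polarBilin_apply_apply]
  exact QuadraticMap.polar_comm ⇑Q u v

theorem quad_add' (u v : VV) : Q (u + v) = Q u + Q v + polarBilin Q u v := by
  rw [QuadraticMap.polarBilin_apply_apply, QuadraticMap.polar]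
  ring

/-- The value on a sum of pairwise orthogonal vectors. -/
theorem quad_sum {κ : Type*} [DecidableEq κ] (S : Finset κ) (x : κ → VV) :
    (∀ i ∈ S, ∀ j ∈ S, i ≠ j → polarBilin Q (x i) (x j) = 0) → Q (∑ i ∈ S, x i) = ∑ i ∈ S, Q (x i) := by
  induction S using Finset.induction_on with
  | empty => intro _; simp
  | insert a S ha ih =>
    intro h
    rw [Finset.sum_insert ha, Finset.sum_insert ha, quad_add',
      ih fun i hi j hj => h i (Finset.mem_insert_of_mem hi) j (Finset.mem_insert_of_mem hj), map_sum,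
      Finset.sum_eq_zero fun j hj => h a (Finset.mem_insert_self _ _) j (Finset.mem_insert_of_mem hj)
        (fun e => ha (e ▸ hj)), add_zero]

theorem exists_adjoint (hQ : Minus Q) (M : MM) :
    ∃ M' : MM, ∀ u v, polarBilin Q (M *ᵥ u) v = polarBilin Q u (M' *ᵥ v) := by
  refine ⟨LinearMap.toMatrix' (LinearMap.BilinForm.leftAdjointOfNondegenerate (polarBilin Q) hQ.nd (Matrix.toLin' M)),
    fun u v => ?_⟩
  rw [← Matrix.toLin'_apply (LinearMap.toMatrix' _) v, Matrix.toLin'_toMatrix', polar_comm',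
    polar_comm' u]
  have h := LinearMap.BilinForm.isAdjointPairLeftAdjointOfNondegenerate (polarBilin Q) hQ.nd (Matrix.toLin' M) v u
  rw [Matrix.toLin'_apply] at h
  exact h.symm

theorem adjoint_unique (hQ : Minus Q) {M M' : MM}
    (h : ∀ u v, polarBilin Q u (M *ᵥ v) = polarBilin Q u (M' *ᵥ v)) : M = M' :=
  TwoPrimeDim.eq_of_mulVec fun v => sub_eq_zero.mp (hQ.nd.2 _ fun u => by rw [map_sub, h, sub_self])

/-- Three orthogonal blocks. -/
theorem three_blocks (hQ : Minus Q) {H N : Subgroup GG} (hH : IsMaximalIn (Cfsg.Geo.omegaGL ⇑Q) H)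
    {e : Fin 3 → MM} (hB : TwoPrimeDim.Blocks H N 4 e) {π : Fin 3 → Fin 3} (hfix : ∀ j, π j = j)
    (hpol : ∀ i j u v, j ≠ π i → polarBilin Q (e i *ᵥ u) (e j *ᵥ v) = 0) : Cases Q H := by
  have horth : ∀ i j, i ≠ j → ∀ u ∈ img (e i), ∀ v ∈ img (e j), polarBilin Q u v = 0 := by
    rintro i j hij _ ⟨u, rfl⟩ _ ⟨v, rfl⟩
    rw [Matrix.toLin'_apply, Matrix.toLin'_apply]
    exact hpol i j u v (by rw [hfix]; exact hij.symm)
  have hnd : ∀ i, QuadType.Nd Q (img (e i)) := by
    intro i a ha ha0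
    by_contra hc
    push Not at hc
    refine ha0 (hQ.nd.1 a fun x => ?_)
    rw [show x = ∑ j, e j *ᵥ x by rw [← Matrix.sum_mulVec, hB.sum_eq, Matrix.one_mulVec], map_sum]
    refine Finset.sum_eq_zero fun j _ => ?_
    by_cases hij : i = j
    · subst hij; exact hc _ ⟨x, rfl⟩
    · exact horth i j hij a ha _ ⟨x, rfl⟩
  have hiso : ∀ i j, AreIsometricFor ⇑Q (img (e i)) (img (e j)) := by
    intro i j
    obtain ⟨g, hg, hgj⟩ := hB.trans i j
    have hinj : Function.Injective (Matrix.toLin' (g : MM)) := fun a b hab =>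
      Matrix.mulVec_injective_iff_isUnit.mpr g.isUnit (by simpa using hab)
    have hm : (img (e i)).map (Matrix.toLin' (g : MM)) = img (e j) := by rw [TwoPrimeDim.map_img_conj, hgj]
    refine ⟨(Submodule.equivMapOfInjective _ hinj _).trans (LinearEquiv.ofEq _ _ hm), fun v => ?_⟩
    exact Orth.iso_quad (Orth.omegaGL_le_isometry (hH.1.le hg)) (v : VV)
  have hrank : ∀ i, finrank F (img (e i)) = 4 := hB.decomp.finrank_eq
  have htype : ∀ i j, QuadType.Plus Q (img (e i)) → QuadType.Plus Q (img (e j)) := by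
    rintro i j ⟨U, hUW, hts, hd⟩
    obtain ⟨g, hg, hgj⟩ := hB.trans i j
    have hinj : Function.Injective (Matrix.toLin' (g : MM)) := fun a b hab =>
      Matrix.mulVec_injective_iff_isUnit.mpr g.isUnit (by simpa using hab)
    refine ⟨U.map (Matrix.toLin' (g : MM)), (Submodule.map_mono hUW).trans (le_of_eq (by rw [TwoPrimeDim.map_img_conj, hgj])), ?_, ?_⟩
    · rintro _ ⟨u, hu, rfl⟩
      rw [Matrix.toLin'_apply, Orth.iso_quad (Orth.omegaGL_le_isometry (hH.1.le hg)), hts u hu]
    · rw [← (Submodule.equivMapOfInjective _ hinj U).finrank_eq, hd, hrank, hrank]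
  have hminus : ∀ i, ¬ QuadType.Plus Q (img (e i)) := by
    intro i hi
    have hp : ∀ j, QuadType.Plus Q (img (e j)) := fun j => htype i j hi
    have hperp01 : img (e 1) ≤ QuadType.perp Q (img (e 0)) := fun v hv u hu => horth 0 1 (by decide) u hu v hv
    obtain ⟨hnd01, hd01⟩ := QuadType.nd_sup Q (hnd 0) (hnd 1) hperp01
    rw [hrank, hrank] at hd01
    have h01 : QuadType.Plus Q (img (e 0) ⊔ img (e 1)) :=
      (QuadAny.sup_iff Q hQ.nd (hnd 0) (hnd 1) hperp01 (by rw [hrank]; decide) (by rw [hrank]; decide)).mpr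
        (iff_of_true (hp 0) (hp 1))
    have hperp2 : img (e 2) ≤ QuadType.perp Q (img (e 0) ⊔ img (e 1)) := fun v hv u hu => by
      obtain ⟨a, ha, b, hb, rfl⟩ := Submodule.mem_sup.mp hu
      rw [map_add, LinearMap.add_apply, horth 0 2 (by decide) a ha v hv, horth 1 2 (by decide) b hb v hv, add_zero]
    have h012 := (QuadAny.sup_iff Q hQ.nd hnd01 (hnd 2) hperp2 (by rw [hd01]; decide) (by rw [hrank]; decide)).mpr
      (iff_of_true h01 (hp 2))
    have htop : img (e 0) ⊔ img (e 1) ⊔ img (e 2) = ⊤ := eq_top_iff.mpr fun v _ => by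
      rw [show v = e 0 *ᵥ v + e 1 *ᵥ v + e 2 *ᵥ v by
        rw [← Matrix.add_mulVec, ← Matrix.add_mulVec, ← Fin.sum_univ_three, hB.sum_eq, Matrix.one_mulVec]]
      exact add_mem (add_mem (Submodule.mem_sup_left (Submodule.mem_sup_left ⟨v, rfl⟩))
        (Submodule.mem_sup_left (Submodule.mem_sup_right ⟨v, rfl⟩))) (Submodule.mem_sup_right ⟨v, rfl⟩)
    rw [htop] at h012
    exact hQ.not_plus h012
  have hD : IsOrthogonalMDecomposition ⇑Q 4 fun i => img (e i) := by
    refine ⟨⟨hB.decomp, fun i a ha ha0 => ?_, fun i j hij u hu v hv => horth i j hij u hu v hv⟩, hiso⟩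
    obtain ⟨x, hx, hax⟩ := hnd i a ha ha0
    exact ⟨⟨x, hx, by rw [polar_comm'] at hax; exact hax⟩, ⟨x, hx, hax⟩⟩
  refine Or.inr (Or.inr (Or.inr (Or.inr (Or.inr (Or.inr (Or.inr (Or.inl
    ⟨fun i => img (e i), hD, fun i h => hminus i h, ?_⟩)))))))
  rcases hH.2 (decompositionStabilizer (fun i => img (e i)) ⊓ Cfsg.Geo.omegaGL ⇑Q)
    (le_inf hB.le_stab hH.1.le) inf_le_right with h | h
  · exact h.symm
  · exact absurd (h ▸ inf_le_left) (not_le_decompositionStabilizer hQ hB.decomp)

/-- A block system consists of three orthogonal minus 4-spaces. -/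
theorem blocks_cases (hQ : Minus Q) {G : Subgroup GG} (hH : IsMaximalIn (Cfsg.Geo.omegaGL ⇑Q) G)
    (hirr : ActsIrreducibly (matrixSet G)) {N : Subgroup GG} (hNG : N ≤ G) {t w : ℕ} {e : Fin t → MM}
    (hB : TwoPrimeDim.Blocks G N w e) : Cases Q G := by
  classical
  have hG : G ≤ Cfsg.isometryGroup F ⇑Q := hH.1.le.trans Orth.omegaGL_le_isometry
  choose A hA using exists_adjoint hQ
  have hA' : ∀ M u v, polarBilin Q u (M *ᵥ v) = polarBilin Q (A M *ᵥ u) v := fun M u v => by
    rw [polar_comm', hA, polar_comm']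
  have hAA : ∀ M, A (A M) = M := fun M =>
    adjoint_unique hQ fun u v => by rw [← hA, ← hA']
  have hAmul : ∀ M M', A (M * M') = A M' * A M := fun M M' =>
    adjoint_unique hQ fun u v => by
      rw [← hA, ← Matrix.mulVec_mulVec, ← Matrix.mulVec_mulVec, hA, hA]
  have hA0 : A 0 = 0 := adjoint_unique hQ fun u v => by
    rw [← hA, Matrix.zero_mulVec, Matrix.zero_mulVec, map_zero, map_zero, LinearMap.zero_apply]
  have hAiso : ∀ g : GG, g ∈ G → A (g : MM) = ((g⁻¹ : GG) : MM) := fun g hg =>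
    adjoint_unique hQ fun u v => by
      rw [← hA, ← Orth.iso_polar (hG hg) u (((g⁻¹ : GG) : MM) *ᵥ v), Matrix.mulVec_mulVec, Units.mul_inv,
        Matrix.one_mulVec]
  have hAcentre : ∀ {X : MM}, X ∈ TwoPrimeDim.centre N → A X ∈ TwoPrimeDim.centre N := by
    intro X hX
    rw [TwoPrimeDim.mem_centre] at hX ⊢
    have key : ∀ Y : MM, (∀ g ∈ N, (g : MM) * Y = Y * (g : MM)) → ∀ g ∈ N, (g : MM) * A Y = A Y * (g : MM) := by
      intro Y hY g hg
      have h := congrArg A (hY g⁻¹ (N.inv_mem hg))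
      rw [hAmul, hAmul, hAiso _ (hNG (N.inv_mem hg)), inv_inv] at h
      exact h.symm
    refine ⟨key X hX.1, fun Y hY => ?_⟩
    have h := congrArg A (hX.2 (A Y) (key Y hY))
    rw [hAmul, hAmul, hAA] at h
    exact h.symm
  have hex : ∀ i, ∃ j, A (e i) = e j := by
    intro i
    refine hB.exists_eq (hAcentre (hB.mem i)) (by rw [← hAmul, hB.idem]) ?_ fun j => ?_
    · intro h0
      exact hB.ne_zero i (by rw [← hAA (e i), h0, hA0])
    · rcases hB.prim i (A (e j)) (hAcentre (hB.mem j)) (by rw [← hAmul, hB.idem]) with h | h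
      · left
        have h2 := congrArg A h
        rw [hAmul, hAA, hA0] at h2
        rwa [TwoPrimeDim.centre_comm (hAcentre (hB.mem i)) (hB.mem j)]
      · right
        have h2 := congrArg A h
        rw [hAmul, hAA] at h2
        rwa [TwoPrimeDim.centre_comm (hAcentre (hB.mem i)) (hB.mem j)]
  choose π hπ using hex
  have hinj : Function.Injective e := fun i j h => by
    by_contra hij
    exact hB.ne_zero i (by rw [← hB.idem i]; exact (congrArg (e i * ·) h).trans (hB.orth i j hij))
  have hππ : ∀ i, π (π i) = i := fun i => hinj (by rw [← hπ, ← hπ, hAA])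
  have hpol : ∀ i j u v, j ≠ π i → polarBilin Q (e i *ᵥ u) (e j *ᵥ v) = 0 := fun i j u v hij => by
    rw [hA, hπ, Matrix.mulVec_mulVec, hB.orth _ _ hij.symm, Matrix.zero_mulVec, map_zero]
  have hconj : ∀ g ∈ G, ∀ i j, (g : MM) * e i * ((g⁻¹ : GG) : MM) = e j →
      (g : MM) * e (π i) * ((g⁻¹ : GG) : MM) = e (π j) := fun g hg i j h => by
    rw [← hπ, ← hπ, ← h, hAmul, hAmul, hAiso g hg, hAiso _ (G.inv_mem hg), inv_inv, mul_assoc]
  have hrank : ∀ S : Finset (Fin t),
      finrank F (img (∑ i ∈ S, e i)) + finrank F (img (∑ i ∈ Sᶜ, e i)) = 12 := by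
    intro S
    have hsum : (∑ i ∈ S, e i) + ∑ i ∈ Sᶜ, e i = 1 := by rw [Finset.sum_add_sum_compl, hB.sum_eq]
    have hz : (∑ i ∈ S, e i) * ∑ i ∈ Sᶜ, e i = 0 := by
      rw [Finset.sum_mul]
      refine Finset.sum_eq_zero fun i hi => ?_
      rw [Finset.mul_sum]
      exact Finset.sum_eq_zero fun j hj => hB.orth i j fun h => Finset.mem_compl.mp hj (h ▸ hi)
    have hz' : (∑ i ∈ Sᶜ, e i) * ∑ i ∈ S, e i = 0 := by
      rw [Finset.sum_mul]
      refine Finset.sum_eq_zero fun i hi => ?_
      rw [Finset.mul_sum]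
      exact Finset.sum_eq_zero fun j hj => hB.orth i j fun h => Finset.mem_compl.mp hi (h ▸ hj)
    have hidem : (∑ i ∈ S, e i) * ∑ i ∈ S, e i = ∑ i ∈ S, e i := by
      conv_rhs => rw [← mul_one (∑ i ∈ S, e i), ← hsum, mul_add, hz, add_zero]
    have htop : img (∑ i ∈ S, e i) ⊔ img (∑ i ∈ Sᶜ, e i) = ⊤ :=
      eq_top_iff.mpr fun v _ => Submodule.mem_sup.mpr ⟨_, ⟨v, rfl⟩, _, ⟨v, rfl⟩, by
        rw [Matrix.toLin'_apply, Matrix.toLin'_apply, ← Matrix.add_mulVec, hsum, Matrix.one_mulVec]⟩
    have hbot : img (∑ i ∈ S, e i) ⊓ img (∑ i ∈ Sᶜ, e i) = ⊥ := by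
      rw [Submodule.eq_bot_iff]
      rintro x ⟨h1, u, rfl⟩
      rw [SetLike.mem_coe, mem_img_idem hidem, Matrix.toLin'_apply, Matrix.mulVec_mulVec, hz,
        Matrix.zero_mulVec] at h1
      rw [Matrix.toLin'_apply, ← h1]
    have h := Submodule.finrank_sup_add_finrank_inf_eq (img (∑ i ∈ S, e i)) (img (∑ i ∈ Sᶜ, e i))
    rw [htop, hbot, finrank_top, finrank_bot, Module.finrank_fintype_fun_eq_card, Fintype.card_fin] at h
    omega
  by_cases hfix : ∃ i, π i = i
  · -- orthogonal blocks: two isometric halves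
    obtain ⟨i₀, hi₀⟩ := hfix
    have hfixall : ∀ j, π j = j := fun j => by
      obtain ⟨g, hg, hgj⟩ := hB.trans i₀ j
      have h := hconj g hg i₀ j hgj
      rw [hi₀, hgj] at h
      exact (hinj h).symm
    have hwcard : t * w = 12 := by
      have h3 := hB.card_eq
      rwa [Fintype.card_fin] at h3
    have ht12 : t ∣ 12 := ⟨w, hwcard.symm⟩
    by_cases ht3 : t = 3
    · subst ht3
      obtain rfl : w = 4 := by omega
      exact three_blocks hQ hH hB hfixall (fun i j u v => hpol i j u v)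
    exfalso
    obtain ⟨s, rfl⟩ : ∃ s, t = 2 * s := by
      have h2 := hB.decomp.two_le
      have ht : t ≤ 12 := Nat.le_of_dvd (by norm_num) ht12
      refine ⟨t / 2, ?_⟩
      interval_cases t <;> omega
    let τ : Fin (2 * s) → Fin (2 * s) := fun i =>
      if h : i.val < s then ⟨i.val + s, by omega⟩ else ⟨i.val - s, by omega⟩
    let S : Finset (Fin (2 * s)) := Finset.univ.filter fun i => i.val < s
    have hττ : ∀ i, τ (τ i) = i := fun i => by
      have hi := i.isLt
      by_cases h : i.val < s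
      · have h' : ¬ i.val + s < s := by omega
        simp [τ, h, h']
      · have h' : i.val - s < s := by omega
        apply Fin.ext
        simp [τ, h, h']
        omega
    have hSτ : ∀ i, i ∈ S ↔ τ i ∈ Sᶜ := fun i => by
      simp only [S, τ, Finset.mem_compl, Finset.mem_filter, Finset.mem_univ, true_and]
      have hi := i.isLt
      split_ifs with h <;> simp <;> omega
    choose g hgG hg using fun i => hB.trans i (τ i)
    have hge : ∀ i, (g i : MM) * e i = e (τ i) * (g i : MM) := fun i => by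
      rw [← hg i, mul_assoc ((g i : MM) * e i), Units.inv_mul, mul_one]
    let Φ : MM := ∑ i, (g i : MM) * e i
    have hQΦ : ∀ v, Q (Φ *ᵥ v) = Q v := by
      intro v
      have horth : ∀ i ∈ (Finset.univ : Finset (Fin (2 * s))), ∀ j ∈ (Finset.univ : Finset (Fin (2 * s))), i ≠ j →
          polarBilin Q (e i *ᵥ v) (e j *ᵥ v) = 0 := fun i _ j _ hij => hpol i j v v (by rw [hfixall]; exact hij.symm)
      have h1 : Q v = ∑ i, Q (e i *ᵥ v) := by
        rw [← quad_sum _ _ horth, ← Matrix.sum_mulVec, hB.sum_eq, Matrix.one_mulVec]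
      rw [Matrix.sum_mulVec, quad_sum, h1]
      · exact Finset.sum_congr rfl fun i _ => by rw [← Matrix.mulVec_mulVec, Orth.iso_quad (hG (hgG i))]
      · intro i _ j _ hij
        rw [hge, hge, ← Matrix.mulVec_mulVec, ← Matrix.mulVec_mulVec]
        refine hpol _ _ _ _ ?_
        rw [hfixall]
        exact fun h => hij (by rw [← hττ i, ← h, hττ])
    have hinjΦ : Function.Injective (Matrix.toLin' Φ) := by
      rw [← LinearMap.ker_eq_bot, Submodule.eq_bot_iff]
      intro v hv
      rw [LinearMap.mem_ker, Matrix.toLin'_apply] at hv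
      refine hQ.nd.1 v fun x => ?_
      have hp : polarBilin Q (Φ *ᵥ v) (Φ *ᵥ x) = polarBilin Q v x := by
        simp only [QuadraticMap.polarBilin_apply_apply, QuadraticMap.polar, ← Matrix.mulVec_add, hQΦ]
      rw [← hp, hv, map_zero, LinearMap.zero_apply]
    have hcomm : ∀ i, Φ * e i = e (τ i) * Φ := fun i => by
      rw [Finset.sum_mul, Finset.mul_sum, Finset.sum_eq_single i, Finset.sum_eq_single i]
      · rw [mul_assoc, hB.idem, hge, ← mul_assoc, hB.idem]
      · intro j _ hj
        rw [hge, ← mul_assoc, hB.orth _ _ (fun h => hj (by rw [← hττ j, ← h, hττ])), zero_mul]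
      · simp
      · intro j _ hj
        rw [mul_assoc, hB.orth _ _ hj, mul_zero]
      · simp
    have hΦf : Φ * (∑ i ∈ S, e i) = (∑ i ∈ Sᶜ, e i) * Φ := by
      rw [Finset.mul_sum, Finset.sum_mul]
      refine Finset.sum_nbij' τ τ (fun i hi => (hSτ i).mp hi) (fun i hi => ?_) (fun i _ => hττ i) (fun i _ => hττ i)
        (fun i _ => hcomm i)
      rw [hSτ, hττ]
      exact hi
    have hmap : (img (∑ i ∈ S, e i)).map (Matrix.toLin' Φ) = img (∑ i ∈ Sᶜ, e i) := by
      refine le_antisymm ?_ ?_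
      · rintro _ ⟨_, ⟨u, rfl⟩, rfl⟩
        exact ⟨Φ *ᵥ u, by simp only [Matrix.toLin'_apply, Matrix.mulVec_mulVec, hΦf]⟩
      · rintro _ ⟨u, rfl⟩
        obtain ⟨u', rfl⟩ := LinearMap.injective_iff_surjective.mp hinjΦ u
        exact ⟨_, ⟨u', rfl⟩, by simp only [Matrix.toLin'_apply, Matrix.mulVec_mulVec, hΦf]⟩
    have hd := hrank S
    have hd' := (Submodule.equivMapOfInjective _ hinjΦ (img (∑ i ∈ S, e i))).finrank_eq
    rw [hmap] at hd'
    refine hQ.no_iso_pair (W := img (∑ i ∈ S, e i)) (W' := img (∑ i ∈ Sᶜ, e i)) (by omega) (by omega) ?_ ?_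
      (Matrix.toLin' Φ) hinjΦ (fun v => by rw [Matrix.toLin'_apply]; exact hQΦ v) hmap
    · rintro _ ⟨u, rfl⟩ _ ⟨v, rfl⟩
      rw [Matrix.toLin'_apply, Matrix.toLin'_apply, ← QuadraticMap.polarBilin_apply_apply, Matrix.sum_mulVec,
        Matrix.sum_mulVec, map_sum]
      refine Finset.sum_eq_zero fun j hj => ?_
      rw [map_sum, LinearMap.sum_apply]
      refine Finset.sum_eq_zero fun i hi => hpol i j u v ?_
      rw [hfixall]
      exact fun h => Finset.mem_compl.mp hj (h ▸ hi)
    · rw [eq_top_iff]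
      intro v _
      exact Submodule.mem_sup.mpr ⟨_, ⟨v, rfl⟩, _, ⟨v, rfl⟩, by
        rw [Matrix.toLin'_apply, Matrix.toLin'_apply, ← Matrix.add_mulVec, Finset.sum_add_sum_compl, hB.sum_eq,
          Matrix.one_mulVec]⟩
  -- paired blocks: two totally singular halves
  exfalso
  push Not at hfix
  have hiso : ∀ i u v, polarBilin Q (e i *ᵥ u) (e i *ᵥ v) = 0 := fun i u v => hpol i i u v (hfix i).symm
  have hQ0 : ∀ i v, Q (e i *ᵥ v) = 0 := by
    by_cases h2 : (2 : F) = 0
    · let s : VV → F := fun v => ∑ i, Q (e i *ᵥ v)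
      have hs0 : ∀ i v, s (e i *ᵥ v) = Q (e i *ᵥ v) := fun i v => by
        show ∑ j, Q (e j *ᵥ (e i *ᵥ v)) = _
        rw [Finset.sum_eq_single i]
        · rw [Matrix.mulVec_mulVec, hB.idem]
        · intro j _ hj
          rw [Matrix.mulVec_mulVec, hB.orth _ _ hj, Matrix.zero_mulVec, map_zero]
        · simp
      have hsadd : ∀ u v, s (u + v) = s u + s v := fun u v => by
        simp only [s, Matrix.mulVec_add, quad_add', hiso, add_zero, Finset.sum_add_distrib]
      have hssmul : ∀ (c : F) v, s (c • v) = c * c * s v := fun c v => by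
        simp only [s, Matrix.mulVec_smul, QuadraticMap.map_smul, smul_eq_mul, Finset.mul_sum]
      let K : Submodule F VV :=
        { carrier := {v | s v = 0}
          add_mem' := fun {u v} hu hv => by
            show s (u + v) = 0
            rw [hsadd, show s u = 0 from hu, show s v = 0 from hv, add_zero]
          zero_mem' := by simp [s]
          smul_mem' := fun c v hv => by
            show s (c • v) = 0
            rw [hssmul, show s v = 0 from hv, mul_zero] }
      have hK : K = ⊤ := by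
        refine ((TwoPrimeDim.actsIrreducibly_iff G).mp hirr K ?_).resolve_left fun hbot => ?_
        · intro g hg v hv
          show s ((g : MM) *ᵥ v) = 0
          obtain ⟨σ, hσ⟩ := hB.perm g hg
          rw [← show s v = 0 from hv]
          show ∑ i, Q (e i *ᵥ ((g : MM) *ᵥ v)) = ∑ i, Q (e i *ᵥ v)
          rw [← Equiv.sum_comp σ]
          refine Finset.sum_congr rfl fun i _ => ?_
          rw [← hσ i, Matrix.mulVec_mulVec, mul_assoc, Units.inv_mul, mul_one, ← Matrix.mulVec_mulVec,
            Orth.iso_quad (hG hg)]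
        · let u₁ : VV := Pi.single 0 1
          let u₂ : VV := Pi.single 1 1
          have hmem : ∀ x, s x = 0 → x = 0 := fun x hx => by
            have : x ∈ K := hx
            rwa [hbot, Submodule.mem_bot] at this
          by_cases h1 : s u₁ = 0
          · have := congrFun (hmem u₁ h1) 0
            simp [u₁] at this
          haveI : CharP F 2 := CharTwo.of_one_ne_zero_of_two_eq_zero one_ne_zero h2
          obtain ⟨c, hc⟩ := FiniteField.isSquare_of_char_two (F := F) (ringChar.eq_iff.mpr inferInstance) (s u₂ / s u₁)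
          have := congrFun (hmem (u₂ + c • u₁) (by
            rw [hsadd, hssmul, ← hc, div_mul_cancel₀ _ h1, ← two_mul, h2, zero_mul])) 1
          simp [u₁, u₂] at this
      intro i v
      rw [← hs0]
      exact hK.ge (Submodule.mem_top : e i *ᵥ v ∈ (⊤ : Submodule F VV))
    · intro i v
      have h := hiso i v v
      rw [QuadraticMap.polarBilin_apply_apply, QuadraticMap.polar_self, two_nsmul, ← two_mul] at h
      exact (mul_eq_zero.mp h).resolve_left h2
  have hts : ∀ S : Finset (Fin t), (∀ i ∈ S, π i ∉ S) → finrank F (img (∑ i ∈ S, e i)) ≤ 5 := by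
    intro S hS
    refine hQ.finrank_ts_le ?_
    rintro _ ⟨v, rfl⟩
    rw [Matrix.toLin'_apply, Matrix.sum_mulVec, quad_sum]
    · exact Finset.sum_eq_zero fun i _ => hQ0 i v
    · exact fun i hi j hj _ => hpol i j v v fun h => hS i hi (h ▸ hj)
  let S : Finset (Fin t) := Finset.univ.filter fun i => i < π i
  have hS : ∀ i, i ∈ S ↔ i < π i := fun i => by simp [S]
  have h1 := hts S fun i hi => by
    rw [hS] at hi
    rw [hS, hππ]
    exact not_lt.mpr hi.le
  have h2 := hts Sᶜ fun i hi => by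
    rw [Finset.mem_compl, hS, not_lt] at hi
    rw [Finset.mem_compl, hS, hππ, not_not]
    exact lt_of_le_of_ne hi (hfix i)
  have := hrank S
  omega

end Cfsg.Agent.Lib.MinusTwelve
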