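import Cfsg.Agent.Lib.MaxSub.QuadAny
import Cfsg.Agent.Lib.MaxSub.Orth
import Cfsg.Agent.Lib.PrimeDim.OrthProper
import Cfsg.Agent.Lib.TwoPrimeDim.Centre

/-!
Quadratic forms of minus type in dimension twelve: the list of cases of `cmax5_omega12minus_maximal_subgroup_cases`
and the basic consequences of the type.
-/

set_option autoImplicit false

namespace Cfsg.Agent.Lib.MinusTwelve

open Matrix Module
open Cfsg.Agent.Lib.MaxSub
open QuadraticMap (polarBilin)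
open scoped MatrixGroups Matrix

attribute [-simp] QuadraticMap.polarBilin_apply_apply

variable {F : Type*} [Field F]

/-- The possibilities for a maximal subgroup of `Ω₁₂⁻(q)`. -/
def Cases [Fintype F] (Q : QuadraticForm F (Fin 12 → F)) (H : Subgroup (Matrix.GeneralLinearGroup (Fin 12) F)) : Prop :=
    (∃ W : Submodule F (Fin 12 → F), W ≠ ⊥ ∧ Cfsg.Geo.IsTotallySingularQuad ⇑Q W ∧ H = Cfsg.Geo.subspaceStabilizer W ⊓ Cfsg.Geo.omegaGL ⇑Q) ∨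
    (Odd (Fintype.card F) ∧ ∃ W : Submodule F (Fin 12 → F), W ≠ ⊥ ∧ W ≠ ⊤ ∧ Odd (Module.finrank F W) ∧ 2 * Module.finrank F W ≠ 12 ∧ Cfsg.Geo.IsNondegenerateOn (QuadraticMap.polar ⇑Q) W ∧ H = Cfsg.Geo.subspaceStabilizer W ⊓ Cfsg.Geo.omegaGL ⇑Q) ∨
    (∃ W : Submodule F (Fin 12 → F), Module.finrank F W = 2 ∧ Cfsg.Geo.IsNondegenerateOn (QuadraticMap.polar ⇑Q) W ∧ ¬ Cfsg.Geo.IsPlusTypeOn ⇑Q W ∧ H = Cfsg.Geo.subspaceStabilizer W ⊓ Cfsg.Geo.omegaGL ⇑Q) ∨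
    (4 ≤ Fintype.card F ∧ ∃ W : Submodule F (Fin 12 → F), Module.finrank F W = 2 ∧ Cfsg.Geo.IsNondegenerateOn (QuadraticMap.polar ⇑Q) W ∧ Cfsg.Geo.IsPlusTypeOn ⇑Q W ∧ H = Cfsg.Geo.subspaceStabilizer W ⊓ Cfsg.Geo.omegaGL ⇑Q) ∨
    (∃ W : Submodule F (Fin 12 → F), Module.finrank F W = 4 ∧ Cfsg.Geo.IsNondegenerateOn (QuadraticMap.polar ⇑Q) W ∧ H = Cfsg.Geo.subspaceStabilizer W ⊓ Cfsg.Geo.omegaGL ⇑Q) ∨
    (∃ W : Submodule F (Fin 12 → F), Module.finrank F W = 6 ∧ Cfsg.Geo.IsNondegenerateOn (QuadraticMap.polar ⇑Q) W ∧ H = Cfsg.Geo.subspaceStabilizer W ⊓ Cfsg.Geo.omegaGL ⇑Q) ∨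
    (¬ Odd (Fintype.card F) ∧ ∃ v : (Fin 12 → F), Q v ≠ 0 ∧ H = Cfsg.Geo.subspaceStabilizer (Submodule.span F {v}) ⊓ Cfsg.Geo.omegaGL ⇑Q) ∨
    (∃ D : Fin 3 → Submodule F (Fin 12 → F), Cfsg.Geo.IsOrthogonalMDecomposition ⇑Q 4 D ∧ (∀ i, ¬ Cfsg.Geo.IsPlusTypeOn ⇑Q (D i)) ∧ H = Cfsg.Geo.decompositionStabilizer D ⊓ Cfsg.Geo.omegaGL ⇑Q) ∨
    (∃ K : Subalgebra F (Matrix (Fin 12) (Fin 12) F), Cfsg.Geo.IsFieldSubalgebra 2 K ∧ H = Cfsg.Geo.subalgebraNormalizer K ⊓ Cfsg.Geo.omegaGL ⇑Q) ∨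
    (∃ K : Subalgebra F (Matrix (Fin 12) (Fin 12) F), Cfsg.Geo.IsFieldSubalgebra 3 K ∧ H = Cfsg.Geo.subalgebraNormalizer K ⊓ Cfsg.Geo.omegaGL ⇑Q) ∨
    (Odd (Fintype.card F) ∧ 5 ≤ Fintype.card F ∧ ∃ (e : Fin 12 ≃ Fin 3 × Fin 4) (P : Matrix.GeneralLinearGroup (Fin 12) F) (f₁ : (Fin 3 → F) → (Fin 3 → F) → F) (f₂ : (Fin 4 → F) → (Fin 4 → F) → F), Cfsg.Geo.IsSymmetricForm f₁ ∧ Cfsg.Geo.IsSymmetricForm f₂ ∧ ¬ Cfsg.Geo.IsPlusTypeOn (fun v : Fin 4 → F => f₂ v v) ⊤ ∧ Cfsg.Geo.IsTensorFormStructure id (QuadraticMap.polar ⇑Q) f₁ f₂ e P ∧ H = Cfsg.Geo.tensorProductSubgroup 3 4 e P ⊓ Cfsg.Geo.omegaGL ⇑Q) ∨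
    (∃ (F₀ : Subfield F) (r : ℕ) (P : Matrix.GeneralLinearGroup (Fin 12) F) (ζ : F), r.Prime ∧ Odd r ∧ Fintype.card F = Nat.card F₀ ^ r ∧ ζ ≠ 0 ∧ Cfsg.Geo.IsQuadFormRationalStructure (fun v : Fin 12 → F => ζ * Q v) F₀ P ∧ H = Cfsg.Geo.subfieldSubgroup F₀ P ⊓ Cfsg.Geo.omegaGL ⇑Q) ∨
    Cfsg.Geo.InOrthogonalResidualClass H

/-- A non-degenerate form of minus type. -/
structure Minus (Q : QuadraticForm F (Fin 12 → F)) : Prop where
  nd : (polarBilin Q).Nondegenerate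
  not_plus : ¬ Cfsg.Geo.IsPlusTypeOn ⇑Q ⊤

variable {Q : QuadraticForm F (Fin 12 → F)}

/-- A totally singular subspace has dimension at most five. -/
theorem Minus.finrank_ts_le (hQ : Minus Q) {U : Submodule F (Fin 12 → F)} (hU : ∀ u ∈ U, Q u = 0) :
    finrank F U ≤ 5 := by
  by_contra h
  have h6 := Orth.finrank_sing_le hQ.nd hU
  rw [Fintype.card_fin] at h6
  refine hQ.not_plus ⟨U, le_top, hU, ?_⟩
  rw [finrank_top, Module.finrank_fin_fun]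
  omega

/-- No totally singular subspace of dimension six. -/
theorem Minus.no_ts_six (hQ : Minus Q) {U : Submodule F (Fin 12 → F)} (hU : ∀ u ∈ U, Q u = 0)
    (h6 : 6 ≤ finrank F U) : False := by
  have := hQ.finrank_ts_le hU
  omega

/-- The space is no orthogonal sum of two isometric halves. -/
theorem Minus.no_iso_pair [Fintype F] (hQ : Minus Q) {W W' : Submodule F (Fin 12 → F)}
    (hd : finrank F W = 6) (hd' : finrank F W' = 6)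
    (horth : ∀ u ∈ W, ∀ v ∈ W', QuadraticMap.polar ⇑Q u v = 0) (hsup : W ⊔ W' = ⊤)
    (φ : (Fin 12 → F) →ₗ[F] (Fin 12 → F)) (hinj : Function.Injective φ) (hφ : ∀ v, Q (φ v) = Q v)
    (hmap : W.map φ = W') : False := by
  have hnd : ∀ {A B : Submodule F (Fin 12 → F)}, A ⊔ B = ⊤ →
      (∀ u ∈ A, ∀ v ∈ B, polarBilin Q u v = 0) → QuadType.Nd Q A := by
    intro A B hAB h a ha ha0
    by_contra hc
    push Not at hc
    refine ha0 (hQ.nd.1 a fun x => ?_)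
    obtain ⟨y, hy, z, hz, rfl⟩ := Submodule.mem_sup.mp (hAB.symm ▸ Submodule.mem_top : x ∈ A ⊔ B)
    rw [map_add, hc y hy, h a ha z hz, add_zero]
  have hW := hnd hsup horth
  have hcomm : ∀ u v, polarBilin Q u v = polarBilin Q v u := fun u v => QuadraticMap.polar_comm ⇑Q u v
  have hW' := hnd (A := W') (B := W) (by rw [sup_comm]; exact hsup) fun u hu v hv => by
    rw [hcomm]; exact horth v hv u hu
  have hperp : W' ≤ QuadType.perp Q W := fun v hv u hu => by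
    exact horth u hu v hv
  have h1 : QuadType.Plus Q W ↔ QuadType.Plus Q W' := by
    constructor
    · rintro ⟨U, hUW, hts, hUd⟩
      refine ⟨U.map φ, hmap ▸ Submodule.map_mono hUW, ?_, ?_⟩
      · rintro _ ⟨u, hu, rfl⟩
        rw [hφ, hts u hu]
      · rw [← (Submodule.equivMapOfInjective φ hinj U).finrank_eq, hUd, hd, hd']
    · rintro ⟨U, hUW, hts, hUd⟩
      refine ⟨U.comap φ ⊓ W, inf_le_right, fun u hu => (hφ u).symm.trans (hts _ hu.1), ?_⟩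
      have hm : (U.comap φ ⊓ W).map φ = U := by
        refine le_antisymm (by rintro _ ⟨u, hu, rfl⟩; exact hu.1) fun u hu => ?_
        obtain ⟨w, hw, rfl⟩ := (hmap.symm ▸ hUW hu : u ∈ W.map φ)
        exact ⟨w, ⟨hu, hw⟩, rfl⟩
      rw [(Submodule.equivMapOfInjective φ hinj _).finrank_eq, hm, hUd, hd, hd']
  have h2 := (QuadAny.sup_iff Q hQ.nd hW hW' hperp (by rw [hd]; decide) (by rw [hd']; decide)).mpr h1
  rw [hsup] at h2
  exact hQ.not_plus h2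

end Cfsg.Agent.Lib.MinusTwelve
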