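import Cfsg.Agent.Lib.MinusTwelve.Defs
import Cfsg.Agent.Lib.OrthAny.Proper
import Cfsg.Agent.Lib.OrthAny.QuadDescent
import Cfsg.Agent.Lib.KnownA.PrimeDim.Core

/-!
The residual step for maximal subgroups of the orthogonal group of minus type in dimension twelve: a core gives a
subfield group of odd prime index or the residual class.
-/

set_option autoImplicit false

namespace Cfsg.Agent.Lib.MinusTwelve

open Matrix Module Cfsg.Geo
open QuadraticMap (polarBilin)
open scoped MatrixGroups Matrix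

variable {F : Type*} [Field F] [Fintype F] {Q : QuadraticForm F (Fin 12 → F)}

/-- A core gives a subfield group or the residual class. -/
theorem forms (hQ : Minus Q) {H P : Subgroup (Matrix.GeneralLinearGroup (Fin 12) F)}
    (hH : IsMaximalIn (omegaGL ⇑Q) H) (hC : KnownA.PrimeDim.Core H P) : Cases Q H := by
  classical
  have hiso : P ≤ Cfsg.isometryGroup F ⇑Q := fun x hx => MaxSub.Orth.omegaGL_le_isometry (hH.1.le (hC.le hx))
  have hfix : FixesQuadForm (matrixSet P) ⇑Q := by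
    rintro _ ⟨x, hx, rfl⟩ v
    exact MaxSub.Orth.iso_quad (hiso hx) v
  have h7 : 7 ≤ Fintype.card (Fin 12) := by simp
  by_cases hreal : ∃ F₀ : Subfield F, F₀ ≠ ⊤ ∧ RealisableOver F₀ (matrixSet P)
  · obtain ⟨F₀, h0, hR⟩ := hreal
    obtain ⟨F₁, r, h1, hr, hcard, hR1⟩ := PrimeDim.FormDescent.exists_prime_index_realisable h0 hR
    rw [Nat.card_eq_fintype_card] at hcard
    obtain ⟨B', ζ, hζ, hB', hBn⟩ := OrthAny.exists_quad_structure hQ.nd (by simp) hC.absIrred hfix hR1
    rcases Nat.Prime.eq_two_or_odd' hr with rfl | hodd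
    · exact absurd (OrthAny.plus_of_index_two hQ.nd ⟨6, by simp⟩ hcard hζ hB') hQ.not_plus
    · exact Or.inr (Or.inr (Or.inr (Or.inr (Or.inr (Or.inr (Or.inr (Or.inr (Or.inr (Or.inr (Or.inr (Or.inl
        ⟨F₁, r, B', ζ, hr, hodd, hcard, hζ, hB', PrimeDim.OrthProper.eq_inf_of_le hH
          (fun g hg => hBn g fun x hx => hC.normal g hg x hx)
          (OrthAny.not_le_subfieldSubgroup hQ.nd h7 h1 B')⟩)))))))))))
  push Not at hreal
  refine Or.inr (Or.inr (Or.inr (Or.inr (Or.inr (Or.inr (Or.inr (Or.inr (Or.inr (Or.inr (Or.inr (Or.inr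
    ⟨P, hC.residual fun F₀ h0 => hreal F₀ h0, ?_⟩)))))))))))
  rintro ⟨σ, f, hf, hff⟩
  obtain ⟨F₀, h0, -, hR⟩ := PrimeDim.FormDescent.realisable_of_unitary_quad hf
    (OrthAny.quad_nondegenerateForm hQ.nd) hC.absIrred hff hfix
  exact hreal F₀ h0 hR

end Cfsg.Agent.Lib.MinusTwelve
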