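import Cfsg.Agent.Lib.MinusTwelve.Defs
import Cfsg.Agent.Lib.SLTwoPrime.Core
import Cfsg.Agent.Lib.TwelveDim.Core
import Cfsg.Agent.Lib.TwoPrimeDim.Homogeneous

/-!
helper12: the maximal subgroups of the orthogonal group of minus type in dimension twelve, given the geometric,
tensor and form steps.
-/

set_option autoImplicit false
set_option linter.unusedSectionVars false

namespace Cfsg.Agent.Lib.MinusTwelve

open Matrix Module Cfsg.Geo
open scoped MatrixGroups Matrix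

variable {F : Type*} [Field F] [Fintype F] {Q : QuadraticForm F (Fin 12 → F)}

local notation "II" => (Fin 12)
local notation "MM" => Matrix (Fin 12) (Fin 12) F
local notation "VV" => (Fin 12 → F)
local notation "GG" => Matrix.GeneralLinearGroup (Fin 12) F
local notation "ZZ" => Cfsg.Geo.scalars (Fin 12) F

/-- A subfield of degree `s` inside a normalised adjoint closed field of degree `r`. -/
theorem exists_sub [Fintype F] {r s : ℕ} (hs : s ∣ r) (hr : 0 < r) {K : Subalgebra F MM}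
    (hK : IsFieldSubalgebra r K) :
    ∃ L : Subalgebra F MM, IsFieldSubalgebra s L ∧
      ∀ h : GG, h ∈ subalgebraNormalizer K → h ∈ subalgebraNormalizer L := by
  letI : CommRing K :=
    { (inferInstance : Ring K) with mul_comm := fun a b => Subtype.ext (hK.comm _ a.2 _ b.2) }
  haveI : Nontrivial K := ⟨⟨0, 1, fun h => zero_ne_one (α := MM) (congrArg Subtype.val h)⟩⟩
  have hf : IsField K := ⟨⟨0, 1, zero_ne_one⟩, mul_comm, fun {a} ha => by
    obtain ⟨y, hy, hay⟩ := hK.inv _ a.2 fun h => ha (Subtype.ext h)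
    exact ⟨⟨y, hy⟩, Subtype.ext hay⟩⟩
  letI : _root_.Field K := hf.toField
  haveI : Finite K := Finite.of_injective (fun x : K => (x : MM)) Subtype.val_injective
  have hrank : Module.finrank F K = r := hK.finrank_eq
  have hcard : Nat.card (K ≃ₐ[F] K) = r := by rw [IsGalois.card_aut_eq_finrank, hrank]
  obtain ⟨g, hg⟩ := IsCyclic.exists_ofOrder_eq_natCard (α := K ≃ₐ[F] K)
  obtain ⟨τ, hτ⟩ : ∃ τ : K ≃ₐ[F] K, orderOf τ = r / s := by
    refine ⟨g ^ s, ?_⟩
    rw [orderOf_pow, hg, hcard, Nat.gcd_eq_right hs]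
  let L0 : IntermediateField F K := IntermediateField.fixedField (Subgroup.zpowers τ)
  have hfin2 : Module.finrank L0 K = r / s := by
    rw [IntermediateField.finrank_fixedField_eq_card, Nat.card_zpowers, hτ]
  have hfinm : Module.finrank F L0 = s := by
    have h := Module.finrank_mul_finrank F L0 K
    rw [hfin2, hrank] at h
    have hs' := Nat.mul_div_cancel' hs
    have hpos : 0 < r / s := Nat.div_pos (Nat.le_of_dvd hr hs) (Nat.pos_of_dvd_of_pos hs hr)
    exact Nat.eq_of_mul_eq_mul_right hpos (h.trans hs'.symm)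
  have hmem : ∀ x : K, x ∈ L0 ↔ τ x = x := by
    intro x
    constructor
    · intro hx; exact hx ⟨τ, Subgroup.mem_zpowers τ⟩
    · rintro hx ⟨g, hg⟩
      have hle : Subgroup.zpowers τ ≤ MulAction.stabilizer (K ≃ₐ[F] K) x :=
        Subgroup.zpowers_le.mpr hx
      exact hle hg
  have hcommute : ∀ a : K ≃ₐ[F] K, ∀ x : K, τ x = x → τ (a x) = a x := by
    intro a x hx
    letI := IsCyclic.commGroup (α := K ≃ₐ[F] K)
    have h : τ * a = a * τ := mul_comm τ a
    have h2 := congrArg (fun g : K ≃ₐ[F] K => g x) h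
    simp only [AlgEquiv.mul_apply] at h2
    rw [h2, hx]
  let L : Subalgebra F MM := L0.toSubalgebra.map K.val
  have hLmem : ∀ k : MM, k ∈ L ↔ ∃ hk : k ∈ K, τ ⟨k, hk⟩ = ⟨k, hk⟩ := by
    intro k
    constructor
    · rintro ⟨x, hx, rfl⟩
      exact ⟨x.2, (hmem x).mp hx⟩
    · rintro ⟨hk, h⟩
      exact ⟨⟨k, hk⟩, (hmem _).mpr h, rfl⟩
  refine ⟨L, ⟨?_, ?_, ?_⟩, ?_⟩
  · rintro x hx y hy
    obtain ⟨hx', -⟩ := (hLmem x).mp hx
    obtain ⟨hy', -⟩ := (hLmem y).mp hy
    exact hK.comm x hx' y hy'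
  · intro x hx hx0
    obtain ⟨hx', hfix⟩ := (hLmem x).mp hx
    obtain ⟨y, hy, hxy⟩ := hK.inv x hx' hx0
    refine ⟨y, (hLmem y).mpr ⟨hy, ?_⟩, hxy⟩
    have h1 : (⟨x, hx'⟩ : K) * ⟨y, hy⟩ = 1 := Subtype.ext hxy
    have h2 := congrArg τ h1
    rw [map_mul, map_one, hfix, ← h1] at h2
    exact mul_left_cancel₀ (fun h => hx0 (congrArg Subtype.val h)) h2
  · have e := (L0.toSubalgebra.equivMapOfInjective K.val Subtype.val_injective).toLinearEquiv.finrank_eq
    exact e.symm.trans hfinm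
  · intro h hh k
    let ψ : K ≃ₐ[F] K := AlgEquiv.ofBijective
      ({ toFun := fun x => ⟨(h : MM) * x * ((h⁻¹ : GG) : MM), (hh x).mp x.2⟩
         map_one' := Subtype.ext (by simp [← Units.val_mul])
         map_mul' := fun x y => Subtype.ext (by simp [mul_assoc])
         map_zero' := Subtype.ext (by simp)
         map_add' := fun x y => Subtype.ext (by simp [mul_add, add_mul])
         commutes' := fun c => Subtype.ext (by
           simp [Algebra.algebraMap_eq_smul_one, ← Units.val_mul]) } : K →ₐ[F] K) (AlgHom.bijective _)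
    constructor
    · intro hk
      obtain ⟨hk', hfix⟩ := (hLmem k).mp hk
      exact (hLmem _).mpr ⟨(hh k).mp hk', hcommute ψ ⟨k, hk'⟩ hfix⟩
    · intro hk
      obtain ⟨hk', hfix⟩ := (hLmem _).mp hk
      have hk0 : k ∈ K := (hh k).mpr hk'
      have h2 := hcommute ψ⁻¹ (ψ ⟨k, hk0⟩) hfix
      have h3 : ψ⁻¹ (ψ ⟨k, hk0⟩) = ⟨k, hk0⟩ := AlgEquiv.symm_apply_apply ψ _
      rw [h3] at h2
      exact (hLmem _).mpr ⟨hk0, h2⟩

/-- The steps which the assembly needs. -/
structure Steps (Q : QuadraticForm F (Fin 12 → F)) (H : Subgroup (Matrix.GeneralLinearGroup (Fin 12) F)) : Prop where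
  reducible : ∀ W : Submodule F (Fin 12 → F), W ≠ ⊥ → W ≠ ⊤ →
    (∀ g ∈ H, ∀ w ∈ W, (g : Matrix (Fin 12) (Fin 12) F) *ᵥ w ∈ W) → Cases Q H
  proper : ∀ (r : ℕ) (K : Subalgebra F (Matrix (Fin 12) (Fin 12) F)), 2 ≤ r → IsFieldSubalgebra r K →
    ¬ Cfsg.Geo.omegaGL ⇑Q ≤ subalgebraNormalizer K
  blocks : ActsIrreducibly (matrixSet H) → ∀ (N : Subgroup (Matrix.GeneralLinearGroup (Fin 12) F)), N ≤ H →
    ∀ (t w : ℕ) (e : Fin t → Matrix (Fin 12) (Fin 12) F), TwoPrimeDim.Blocks H N w e → Cases Q H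
  tensor : ActsIrreducibly (matrixSet H) → ∀ (N : Subgroup (Matrix.GeneralLinearGroup (Fin 12) F)), N ≤ H →
    (∀ g ∈ H, ∀ x ∈ N, g * x * g⁻¹ ∈ N) →
    ∀ (d k : ℕ) (A : N → Matrix (Fin d) (Fin d) F) (φ : Fin k → (Fin d → F) →ₗ[F] (Fin 12 → F)),
      (∀ U : Submodule F (Fin d → F), (∀ n, ∀ u ∈ U, A n *ᵥ u ∈ U) → U = ⊥ ∨ U = ⊤) →
      (∀ X : Matrix (Fin d) (Fin d) F, (∀ n, X * A n = A n * X) → ∃ c : F, X = c • 1) →
      (∀ j (n : N) x, ((n : Matrix.GeneralLinearGroup (Fin 12) F) : Matrix (Fin 12) (Fin 12) F) *ᵥ φ j x =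
        φ j (A n *ᵥ x)) →
      Function.Bijective (Cfsg.Agent.Lib.MaxTensor.assemble φ) → d * k = 12 → 1 < d → 1 < k → Cases Q H
  forms : ∀ P : Subgroup (Matrix.GeneralLinearGroup (Fin 12) F), KnownA.PrimeDim.Core H P → Cases Q H

theorem card_twelve : Fintype.card II = 12 := by simp

theorem field_cases {H : Subgroup GG} (hH : IsMaximalIn (Cfsg.Geo.omegaGL ⇑Q) H)
    (hP : ∀ (r : ℕ) (K : Subalgebra F MM), 2 ≤ r → IsFieldSubalgebra r K → ¬ (Cfsg.Geo.omegaGL ⇑Q) ≤ subalgebraNormalizer K)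
    (K : Subalgebra F MM) {r : ℕ} (hK : IsFieldSubalgebra r K) (h1 : 1 < r) (hr : r ∣ 12)
    (hnorm : ∀ h ∈ H, h ∈ subalgebraNormalizer K) : Cases Q H := by
  by_cases h2 : 2 ∣ r
  · obtain ⟨L, hL, hn⟩ := exists_sub h2 (by omega) hK
    exact Or.inr (Or.inr (Or.inr (Or.inr (Or.inr (Or.inr (Or.inr (Or.inr (Or.inl
      ⟨L, hL, PrimeDim.OrthProper.eq_inf_of_le hH (fun h hh => hn h (hnorm h hh)) (hP 2 L le_rfl hL)⟩))))))))
  · obtain rfl : r = 3 := by
      have := Nat.le_of_dvd (by norm_num) hr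
      interval_cases r <;> omega
    exact Or.inr (Or.inr (Or.inr (Or.inr (Or.inr (Or.inr (Or.inr (Or.inr (Or.inr (Or.inl
      ⟨K, hK, PrimeDim.OrthProper.eq_inf_of_le hH hnorm (hP 3 K (by norm_num) hK)⟩)))))))))

theorem scalar_or_absIrred {H N : Subgroup GG} (hH : IsMaximalIn (Cfsg.Geo.omegaGL ⇑Q) H) (hS : Steps Q H)
    (hirr : ActsIrreducibly (matrixSet H)) (hcases : ¬ Cases Q H) (hN : N ≤ H)
    (hNG : ∀ g ∈ H, ∀ x ∈ N, g * x * g⁻¹ ∈ N) : N ≤ ZZ ∨ ActsAbsolutelyIrreducibly (matrixSet N) := by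
  classical
  rcases TwoPrimeDim.centre_cases hirr hNG with ⟨r, hr, hK⟩ | ⟨t, w, e, hB⟩
  swap
  · exact absurd (hS.blocks hirr N hN t w e hB) hcases
  rw [card_twelve] at hr
  rcases Nat.lt_or_ge 1 r with h1 | h1
  · exact absurd (field_cases hH hS.proper _ hK h1 hr fun h hh => TwoPrimeDim.centre_normalized hNG hh) hcases
  have hr1 : r = 1 := by
    rcases Nat.eq_zero_or_pos r with h | h
    · rw [h, Nat.zero_dvd] at hr
      omega
    · omega
  have hc : ∀ M ∈ TwoPrimeDim.centre N, ∃ c : F, M = c • (1 : MM) := by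
    intro M hM
    obtain ⟨c, hcM⟩ := (finrank_eq_one_iff_of_nonzero'
      (⟨1, (TwoPrimeDim.centre N).one_mem⟩ : Subalgebra.toSubmodule (TwoPrimeDim.centre N))
      (fun h => zero_ne_one (α := MM) (congrArg Subtype.val h).symm)).mp (hK.finrank_eq.trans hr1) ⟨M, hM⟩
    exact ⟨c, (congrArg Subtype.val hcM).symm⟩
  obtain ⟨d, k, A, φ, hdk, hd, hk, hAirr, hAscal, hφ, hbij⟩ := TwoPrimeDim.homogeneous hirr hNG hc
  rw [card_twelve] at hdk
  rcases eq_or_lt_of_le (Nat.one_le_iff_ne_zero.mpr hd.ne') with hd1 | hd1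
  · left
    subst hd1
    intro x hx
    set a := A ⟨x, hx⟩ 0 0
    refine SLTwoPrime.mem_scalars_of_val (c := a) (TwoPrimeDim.eq_of_mulVec fun v => ?_)
    obtain ⟨u, rfl⟩ := hbij.2 v
    have hA1 : ∀ y : Fin 1 → F, A ⟨x, hx⟩ *ᵥ y = a • y := fun y => by
      funext i
      obtain rfl : i = 0 := Subsingleton.elim _ _
      simp [Matrix.mulVec, dotProduct, a]
    simp only [MaxTensor.assemble, LinearMap.coe_mk, AddHom.coe_mk, Matrix.mulVec_sum,
      Matrix.smul_mulVec, Matrix.one_mulVec]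
    exact Finset.sum_congr rfl fun j _ => by rw [hφ j ⟨x, hx⟩, hA1, map_smul]
  rcases eq_or_lt_of_le (Nat.one_le_iff_ne_zero.mpr hk.ne') with hk1 | hk1
  swap
  · exact absurd (hS.tensor hirr N hN hNG d k A φ hAirr hAscal hφ hbij hdk hd1 hk1) hcases
  right
  subst hk1
  have hval : ∀ u, MaxTensor.assemble φ u = φ 0 (u 0) := fun u => by simp [MaxTensor.assemble]
  have h0 : Function.Bijective (φ 0) := by
    refine ⟨fun a b hab => ?_, fun v => ?_⟩
    · exact congrFun (hbij.1 (a₁ := fun _ => a) (a₂ := fun _ => b) (by rw [hval, hval, hab])) 0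
    · obtain ⟨u, rfl⟩ := hbij.2 v
      exact ⟨u 0, (hval u).symm⟩
  let Φ := LinearEquiv.ofBijective (φ 0) h0
  refine ⟨(TwoPrimeDim.actsIrreducibly_iff N).mpr fun U hU => ?_, fun M hM => ?_⟩
  · rcases hAirr (U.comap (φ 0)) fun n u hu => by
        rw [Submodule.mem_comap] at hu ⊢
        rw [← hφ]
        exact hU n n.2 _ hu with h | h
    · left
      rw [← Submodule.map_comap_eq_of_surjective h0.2 U, h, Submodule.map_bot]
    · right
      rw [← Submodule.map_comap_eq_of_surjective h0.2 U, h, Submodule.map_top, LinearMap.range_eq_top.mpr h0.2]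
  · let X := LinearMap.toMatrix' (Φ.symm.toLinearMap ∘ₗ Matrix.toLin' M ∘ₗ Φ.toLinearMap)
    have hX : ∀ y, φ 0 (X *ᵥ y) = M *ᵥ φ 0 y := fun y => by
      rw [← Matrix.toLin'_apply X, Matrix.toLin'_toMatrix']
      simp only [LinearMap.comp_apply, LinearEquiv.coe_coe, Matrix.toLin'_apply]
      exact Φ.apply_symm_apply _
    obtain ⟨c, hcX⟩ := hAscal X fun n => Matrix.ext_of_mulVec_single fun i => h0.1 (by
      rw [← Matrix.mulVec_mulVec, ← Matrix.mulVec_mulVec, hX, ← hφ, ← hφ, hX, Matrix.mulVec_mulVec,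
        Matrix.mulVec_mulVec, hM _ ⟨n, n.2, rfl⟩])
    refine ⟨c, TwoPrimeDim.eq_of_mulVec fun v => ?_⟩
    obtain ⟨y, rfl⟩ := h0.2 v
    rw [← hX, hcX, Matrix.smul_mulVec, Matrix.one_mulVec, map_smul, Matrix.smul_mulVec, Matrix.one_mulVec]

/-- Every maximal subgroup is on the list, given the steps. -/
theorem maximal_cases_of {H : Subgroup GG} (hH : IsMaximalIn (Cfsg.Geo.omegaGL ⇑Q) H) (hS : Steps Q H) : Cases Q H := by
  classical
  by_contra hcases
  have hirr : ActsIrreducibly (matrixSet H) := by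
    refine (TwoPrimeDim.actsIrreducibly_iff H).mpr fun W hW => ?_
    by_contra h
    rw [not_or] at h
    exact hcases (hS.reducible W h.1 h.2 hW)
  have hns : ¬ H ≤ ZZ := by
    intro hle
    let v : VV := Pi.single 0 1
    have hv : v ≠ 0 := by simp [v]
    rcases (TwoPrimeDim.actsIrreducibly_iff H).mp hirr (F ∙ v) fun g hg w hw => by
        obtain ⟨c, hc⟩ := (mem_scalars_iff g).mp (hle hg)
        rw [hc, Matrix.smul_mulVec, Matrix.one_mulVec]
        exact Submodule.smul_mem _ _ hw with h | h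
    · rw [Submodule.span_singleton_eq_bot] at h
      exact hv h
    · have h1 := finrank_span_singleton (K := F) hv
      rw [h, finrank_top, Module.finrank_fintype_fun_eq_card, card_twelve] at h1
      omega
  obtain ⟨P, hle, hnorm, hPsc, hmin⟩ := TwelveDim.exists_minimal hns
  have habs := (scalar_or_absIrred hH hS hirr hcases hle hnorm).resolve_left hPsc
  exact hcases (hS.forms P (TwelveDim.core card_twelve hle hnorm hPsc hmin habs))

end Cfsg.Agent.Lib.MinusTwelve
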