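import Cfsg.Agent.Lib.MinusTwelve.Defs
import Cfsg.Agent.Lib.Geometry.MaxIsotropic

/-!
`Ω₁₂⁻(q)` fixes no proper subspace, and a maximal subgroup fixing one is the stabiliser of a totally singular
subspace, of a non-singular point or of a non-degenerate subspace of one of the listed kinds.
-/

set_option autoImplicit false
set_option linter.unusedSectionVars false

namespace Cfsg.Agent.Lib.MinusTwelve

open Matrix QuadraticMap Module
open Cfsg.Agent.Lib.MaxSub

open Cfsg.Agent.Lib.PrimeDim.OrthProper (exists_sing_nonorth mem_stabilizer_of_maps maps_of_mem_stabilizer eq_inf_of_le)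
open Cfsg.Agent.Lib.Geometry (quad_add quad_smul quad_polar_self quad_polar_comm)
open scoped MatrixGroups Matrix

attribute [-simp] QuadraticMap.polarBilin_apply_apply

variable {F : Type*} [Field F] [Fintype F] {Q : QuadraticForm F (Fin 12 → F)}

theorem invariant_eq (hQ : Minus Q) {W : Submodule F (Fin 12 → F)}
    (h : ∀ g ∈ Cfsg.Geo.omegaGL ⇑Q, ∀ w ∈ W, (g : Matrix (Fin 12) (Fin 12) F) *ᵥ w ∈ W) : W = ⊥ ∨ W = ⊤ := by
  have hN := hQ.nd
  have hn : 7 ≤ Fintype.card (Fin 12) := by simp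
  rcases eq_or_ne W ⊥ with hW | hW
  · exact Or.inl hW
  right
  obtain ⟨w, hw, hw0⟩ := (Submodule.ne_bot_iff W).mp hW
  obtain ⟨u, hu, hwu⟩ := exists_sing_nonorth hN hn hw0
  have hmove : ∀ x, polarBilin Q u x = 0 →
      polarBilin Q w u • x - (polarBilin Q w x + Q x * polarBilin Q w u) • u ∈ W := by
    intro x hx
    have := W.sub_mem (h _ (Orth.eichGL_mem_omega hN hn hu hx) w hw) hw
    rw [Orth.eichGL_mulVec] at this
    convert this using 1
    abel
  have huW : u ∈ W := by
    obtain ⟨x, hx, y, hy, hxy⟩ : ∃ x, polarBilin Q u x = 0 ∧ ∃ y, polarBilin Q u y = 0 ∧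
        polarBilin Q x y ≠ 0 := by
      by_contra hc
      push Not at hc
      have hle : LinearMap.ker (polarBilin Q u) ≤
          LinearMap.BilinForm.orthogonal (polarBilin Q) (LinearMap.ker (polarBilin Q u)) :=
        fun a ha b hb => hc b (LinearMap.mem_ker.mp hb) a (LinearMap.mem_ker.mp ha)
      have h1 := (polarBilin Q u).finrank_range_add_finrank_ker
      have h2 : finrank F (LinearMap.range (polarBilin Q u)) ≤ 1 :=
        (Submodule.finrank_le _).trans (by simp)
      have h3 := Submodule.finrank_mono hle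
      rw [LinearMap.BilinForm.finrank_orthogonal hN] at h3
      rw [finrank_fin_fun] at h1 h3
      omega
    have := W.sub_mem (W.sub_mem (hmove (x + y) (by rw [map_add, hx, hy, add_zero])) (hmove x hx)) (hmove y hy)
    rw [quad_add, map_add] at this
    have h' : (-(polarBilin Q x y * polarBilin Q w u)) • u ∈ W := by
      convert this using 1
      module
    exact (Submodule.smul_mem_iff _ (neg_ne_zero.mpr (mul_ne_zero hxy hwu))).mp h'
  have hperp : ∀ x, polarBilin Q u x = 0 → x ∈ W := fun x hx =>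
    (Submodule.smul_mem_iff _ hwu).mp
      ((Submodule.sub_mem_iff_left _ (W.smul_mem _ huW)).mp (hmove x hx))
  refine eq_top_iff.mpr fun y _ => ?_
  have := W.add_mem (hperp (y - (polarBilin Q u y / polarBilin Q u w) • w) (by
    rw [map_sub, map_smul, smul_eq_mul, div_mul_cancel₀ _ (by rwa [quad_polar_comm]), sub_self]))
    (W.smul_mem (polarBilin Q u y / polarBilin Q u w) hw)
  rwa [sub_add_cancel] at this

/-- `Ω₁₂⁻(q)` stabilises no proper subspace. -/
theorem not_le_subspaceStabilizer (hQ : Minus Q) {W : Submodule F (Fin 12 → F)} (h0 : W ≠ ⊥) (h1 : W ≠ ⊤) :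
    ¬ Cfsg.Geo.omegaGL ⇑Q ≤ Cfsg.Geo.subspaceStabilizer W := fun h =>
  (invariant_eq hQ fun g hg w hw => maps_of_mem_stabilizer (h hg) hw).elim h0 h1

private theorem nondegOn {U : Submodule F (Fin 12 → F)}
    (hU : U ⊓ LinearMap.BilinForm.orthogonal (polarBilin Q) U = ⊥) :
    Cfsg.Geo.IsNondegenerateOn (QuadraticMap.polar ⇑Q) U := by
  intro w hw hw0
  obtain ⟨x, hx, hxw⟩ : ∃ x ∈ U, polarBilin Q x w ≠ 0 := by
    by_contra hh
    push Not at hh
    exact hw0 ((Submodule.eq_bot_iff _).mp hU w ⟨hw, hh⟩)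
  refine ⟨⟨x, hx, ?_⟩, ⟨x, hx, ?_⟩⟩
  · rwa [← polarBilin_apply_apply]
  · rw [QuadraticMap.polar_comm, ← polarBilin_apply_apply]; exact hxw

/-- In characteristic two a non-degenerate subspace has even dimension. -/
private theorem even_of_two_eq_zero (h2 : (2 : F) = 0) {U : Submodule F (Fin 12 → F)}
    (hU : U ⊓ LinearMap.BilinForm.orthogonal (polarBilin Q) U = ⊥) : Even (finrank F U) := by
  let B : LinearMap.BilinForm F U := (polarBilin Q).compl₁₂ U.subtype U.subtype
  have hB : B.IsAlt := fun x => by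
    show polarBilin Q (x : Fin 12 → F) x = 0
    rw [quad_polar_self, h2, zero_mul]
  have hk : LinearMap.ker B = ⊥ := by
    refine (Submodule.eq_bot_iff _).mpr fun x hx => ?_
    have h3 : ∀ y ∈ U, polarBilin Q y x = 0 := fun y hy => by
      have := LinearMap.congr_fun (LinearMap.mem_ker.mp hx) ⟨y, hy⟩
      rw [quad_polar_comm]
      exact this
    exact Subtype.ext ((Submodule.eq_bot_iff _).mp hU x ⟨x.2, h3⟩)
  have := Geometry.even_finrank_sub_ker B hB
  rwa [hk, finrank_bot, add_zero] at this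

/-- A maximal subgroup fixing a proper subspace. -/
theorem reducible_cases (hQ : Minus Q) {H : Subgroup (GL (Fin 12) F)}
    (hH : Cfsg.Geo.IsMaximalIn (Cfsg.Geo.omegaGL ⇑Q) H) {W : Submodule F (Fin 12 → F)} (h0 : W ≠ ⊥) (h1 : W ≠ ⊤)
    (hW : ∀ g ∈ H, ∀ w ∈ W, (g : Matrix (Fin 12) (Fin 12) F) *ᵥ w ∈ W) : Cases Q H := by
  classical
  have hN := hQ.nd
  have hiso : ∀ g ∈ H, g ∈ Cfsg.isometryGroup F ⇑Q := fun g hg => Orth.omegaGL_le_isometry (hH.1.le hg)
  have hperp : ∀ (U : Submodule F (Fin 12 → F)),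
      (∀ g ∈ H, ∀ w ∈ U, (g : Matrix (Fin 12) (Fin 12) F) *ᵥ w ∈ U) →
      ∀ g ∈ H, ∀ z ∈ LinearMap.BilinForm.orthogonal (polarBilin Q) U,
        (g : Matrix (Fin 12) (Fin 12) F) *ᵥ z ∈ LinearMap.BilinForm.orthogonal (polarBilin Q) U := by
    intro U hU g hg z hz y hy
    obtain ⟨y', hy', rfl⟩ : ∃ y' ∈ U, (g : Matrix (Fin 12) (Fin 12) F) *ᵥ y' = y :=
      ⟨((g⁻¹ : GL (Fin 12) F) : Matrix (Fin 12) (Fin 12) F) *ᵥ y, hU _ (H.inv_mem hg) y hy, by
        rw [Matrix.mulVec_mulVec, ← Units.val_mul, mul_inv_cancel, Units.val_one, Matrix.one_mulVec]⟩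
    show polarBilin Q _ _ = 0
    rw [Orth.iso_polar (hiso g hg)]
    exact hz y' hy'
  have hstab : ∀ U : Submodule F (Fin 12 → F), U ≠ ⊥ → U ≠ ⊤ →
      (∀ g ∈ H, ∀ w ∈ U, (g : Matrix (Fin 12) (Fin 12) F) *ᵥ w ∈ U) →
      H = Cfsg.Geo.subspaceStabilizer U ⊓ Cfsg.Geo.omegaGL ⇑Q := fun U hb ht hU =>
    eq_inf_of_le hH (fun g hg => mem_stabilizer_of_maps (hU g hg)) (not_le_subspaceStabilizer hQ hb ht)
  set Wp := LinearMap.BilinForm.orthogonal (polarBilin Q) W with hWp
  by_cases hrad : W ⊓ Wp = ⊥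
  swap
  · set R := W ⊓ Wp with hR
    have hRt : R ≠ ⊤ := fun he => h1 (eq_top_iff.mpr (he ▸ inf_le_left))
    have hRi : ∀ g ∈ H, ∀ w ∈ R, (g : Matrix (Fin 12) (Fin 12) F) *ᵥ w ∈ R := fun g hg w hw =>
      ⟨hW g hg w hw.1, hperp W hW g hg w hw.2⟩
    by_cases hts : ∀ z ∈ R, Q z = 0
    · exact Or.inl ⟨R, hrad, hts, hstab R hrad hRt hRi⟩
    push Not at hts
    obtain ⟨v, hv, hQv⟩ := hts
    have hRR : ∀ a ∈ R, ∀ b ∈ R, polarBilin Q a b = 0 := fun a ha b hb => hb.2 a ha.1
    have h2 : (2 : F) = 0 := by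
      have := hRR v hv v hv
      rw [quad_polar_self] at this
      exact (mul_eq_zero.mp this).resolve_right hQv
    haveI : CharP F 2 := CharTwo.of_one_ne_zero_of_two_eq_zero one_ne_zero h2
    have hc2 : ringChar F = 2 := ringChar.eq F 2
    let R₀ : Submodule F (Fin 12 → F) :=
      { carrier := {z | z ∈ R ∧ Q z = 0}
        add_mem' := fun {a b} ha hb => ⟨R.add_mem ha.1 hb.1, by
          rw [quad_add, ha.2, hb.2, hRR a ha.1 b hb.1, add_zero, add_zero]⟩
        zero_mem' := ⟨R.zero_mem, QuadraticMap.map_zero Q⟩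
        smul_mem' := fun c a ha => ⟨R.smul_mem c ha.1, by rw [quad_smul, ha.2, mul_zero]⟩ }
    by_cases h00 : R₀ = ⊥
    swap
    · exact Or.inl ⟨R₀, h00, fun z hz => hz.2, hstab R₀ h00
        (fun he => hRt (eq_top_iff.mpr fun z _ => ((he.symm ▸ Submodule.mem_top : z ∈ R₀)).1))
        fun g hg z hz => ⟨hRi g hg z hz.1, (Orth.iso_quad (hiso g hg) z).trans hz.2⟩⟩
    have hspan : R = Submodule.span F {v} := by
      refine le_antisymm (fun z hz => ?_) ((Submodule.span_singleton_le_iff_mem v R).mpr hv)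
      obtain ⟨c, hc⟩ := FiniteField.isSquare_of_char_two hc2 (Q z / Q v)
      have hz0 : z + c • v ∈ R₀ := ⟨R.add_mem hz (R.smul_mem c hv), by
        rw [quad_add, quad_smul, hRR z hz _ (R.smul_mem c hv), ← hc, div_mul_cancel₀ _ hQv, add_zero,
          ← two_mul, h2, zero_mul]⟩
      rw [h00, Submodule.mem_bot, add_eq_zero_iff_eq_neg] at hz0
      exact hz0 ▸ Submodule.neg_mem _ (Submodule.smul_mem _ _ (Submodule.mem_span_singleton_self v))
    refine Or.inr (Or.inr (Or.inr (Or.inr (Or.inr (Or.inr (Or.inl ⟨?_, v, hQv, ?_⟩))))))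
    · rw [Nat.not_odd_iff]
      exact FiniteField.even_card_iff_char_two.mp hc2
    · rw [← hspan]; exact hstab R hrad hRt hRi
  have hsym : ∀ a b, polarBilin Q a b = 0 → polarBilin Q b a = 0 := Orth.polar_symm Q
  have hdimp : finrank F Wp = 12 - finrank F W := by
    rw [hWp, LinearMap.BilinForm.finrank_orthogonal hN, finrank_fin_fun]
  have hWlt : finrank F W < 12 := by
    have := Submodule.finrank_lt h1
    rwa [finrank_fin_fun] at this
  have hW0 : 0 < finrank F W := Submodule.one_le_finrank_iff.mpr h0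
  obtain ⟨U, hU1, hU4, hUn, hUi⟩ : ∃ U : Submodule F (Fin 12 → F), 0 < finrank F U ∧ finrank F U ≤ 6 ∧
      U ⊓ LinearMap.BilinForm.orthogonal (polarBilin Q) U = ⊥ ∧
      ∀ g ∈ H, ∀ w ∈ U, (g : Matrix (Fin 12) (Fin 12) F) *ᵥ w ∈ U := by
    rcases le_or_gt (finrank F W) 6 with hle | hgt
    · exact ⟨W, hW0, hle, hrad, hW⟩
    · refine ⟨Wp, by omega, by omega, ?_, hperp W hW⟩
      rw [hWp, LinearMap.BilinForm.orthogonal_orthogonal (B := polarBilin Q) hN hsym, inf_comm]
      exact hrad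
  have hU0 : U ≠ ⊥ := fun he => by rw [he, finrank_bot] at hU1; omega
  have hUt : U ≠ ⊤ := fun he => by rw [he, finrank_top, finrank_fin_fun] at hU4; omega
  have hUeq := hstab U hU0 hUt hUi
  rcases Nat.even_or_odd (finrank F U) with hev | hod
  swap
  · by_cases hq : Odd (Fintype.card F)
    · exact Or.inr (Or.inl ⟨hq, U, hU0, hUt, hod, by
          obtain ⟨k, hk⟩ := hod
          omega, nondegOn hUn, hUeq⟩)
    · have h2 : (2 : F) = 0 := by
        have hc2 : ringChar F = 2 := FiniteField.even_card_iff_char_two.mpr (Nat.not_odd_iff.mp hq)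
        have := ringChar.Nat.cast_ringChar (R := F)
        rw [hc2] at this
        exact_mod_cast this
      exact absurd (even_of_two_eq_zero h2 hUn) (Nat.not_even_iff_odd.mpr hod)
  have hU24 : finrank F U = 2 ∨ finrank F U = 4 ∨ finrank F U = 6 := by
    obtain ⟨k, hk⟩ := hev
    omega
  rcases hU24 with hU2 | hU4' | hU6
  rotate_left
  · exact Or.inr (Or.inr (Or.inr (Or.inr (Or.inl ⟨U, hU4', nondegOn hUn, hUeq⟩))))
  · exact Or.inr (Or.inr (Or.inr (Or.inr (Or.inr (Or.inl ⟨U, hU6, nondegOn hUn, hUeq⟩)))))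
  by_cases hplus : Cfsg.Geo.IsPlusTypeOn ⇑Q U
  swap
  · exact Or.inr (Or.inr (Or.inl ⟨U, hU2, nondegOn hUn, hplus, hUeq⟩))
  by_cases hq4 : 4 ≤ Fintype.card F
  · exact Or.inr (Or.inr (Or.inr (Or.inl ⟨hq4, U, hU2, nondegOn hUn, hplus, hUeq⟩)))
  have hq23 : Fintype.card F = 2 ∨ Fintype.card F = 3 := by
    have := Fintype.one_lt_card (α := F)
    omega
  obtain ⟨S, hSU, hS, hS2⟩ := hplus
  -- the line of vectors of value one in a hyperbolic plane over two or three elements
  obtain ⟨e, heS, he0⟩ := (Submodule.ne_bot_iff S).mp fun hb => by rw [hb, finrank_bot] at hS2; omega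
  have hQe : Q e = 0 := hS e heS
  obtain ⟨z, hz, hez⟩ : ∃ z ∈ U, polarBilin Q e z ≠ 0 := by
    by_contra hh
    push Not at hh
    exact he0 ((Submodule.eq_bot_iff _).mp hUn e ⟨hSU heS, fun y hy => hsym _ _ (hh y hy)⟩)
  obtain ⟨f, hf, hQf, hef⟩ := Orth.exists_partner hN hQe (hSU heS) hz hez
  have hfe : polarBilin Q f e = 1 := by rw [quad_polar_comm, hef]
  have hspan : Submodule.span F {e, f} = U := by
    refine Submodule.eq_of_le_of_finrank_le
      (Submodule.span_le.mpr (Set.insert_subset (hSU heS) (by simpa using hf))) ?_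
    have hli : LinearIndependent F ![e, f] := LinearIndependent.pair_iff.mpr fun s t hst => by
      have h3 := congrArg (polarBilin Q e) hst
      have h4 := congrArg (polarBilin Q f) hst
      rw [map_add, map_smul, map_smul, Orth.polar_self_of_sing Q hQe, hef, map_zero] at h3
      rw [map_add, map_smul, map_smul, Orth.polar_self_of_sing Q hQf, hfe, map_zero] at h4
      simp only [smul_eq_mul, mul_zero, mul_one, zero_add, add_zero] at h3 h4
      exact ⟨h4, h3⟩
    have := finrank_span_eq_card hli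
    rw [Matrix.range_cons_cons_empty, Fintype.card_fin] at this
    omega
  set v := e + f with hv
  have hQv : Q v = 1 := by rw [hv, quad_add, hQe, hQf, hef, zero_add, zero_add]
  have hfix : ∀ g ∈ H, ∀ w ∈ Submodule.span F {v},
      (g : Matrix (Fin 12) (Fin 12) F) *ᵥ w ∈ Submodule.span F {v} := by
    intro g hg w hw
    obtain ⟨c, rfl⟩ := Submodule.mem_span_singleton.mp hw
    rw [Matrix.mulVec_smul]
    refine Submodule.smul_mem _ _ ?_
    have hgU : (g : Matrix (Fin 12) (Fin 12) F) *ᵥ v ∈ Submodule.span F {e, f} := by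
      rw [hspan]; exact hUi g hg v (U.add_mem (hSU heS) hf)
    obtain ⟨a, b, hab⟩ := Submodule.mem_span_pair.mp hgU
    have h3 := Orth.iso_quad (hiso g hg) v
    rw [hQv, ← hab, quad_add, quad_smul, quad_smul, hQe, hQf, map_smul, map_smul, LinearMap.smul_apply, hef] at h3
    simp only [smul_eq_mul, mul_zero, zero_add, mul_one] at h3
    have ha : a ≠ 0 := fun ha0 => by rw [ha0] at h3; simp at h3
    have ha2 : a ^ 2 = 1 := by
      have := FiniteField.pow_card_sub_one_eq_one a ha
      rcases hq23 with hq | hq <;> simp [hq] at this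
      · rw [this, one_pow]
      · rcases this with h | h <;> simp [h]
    have hb' : b = a := by linear_combination a * h3 - b * ha2
    exact Submodule.mem_span_singleton.mpr ⟨a, by rw [← hab, hb', hv, smul_add]⟩
  have hv0 : v ≠ 0 := fun h => by rw [h, QuadraticMap.map_zero] at hQv; exact one_ne_zero hQv.symm
  have hL1 : finrank F (Submodule.span F {v}) = 1 := finrank_span_singleton hv0
  have hLb : Submodule.span F {v} ≠ ⊥ := fun he => by rw [he, finrank_bot] at hL1; omega
  have hLt : Submodule.span F {v} ≠ ⊤ := fun he => by rw [he, finrank_top, finrank_fin_fun] at hL1; omega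
  rcases hq23 with hq | hq
  · exact Or.inr (Or.inr (Or.inr (Or.inr (Or.inr (Or.inr (Or.inl
      ⟨by rw [hq]; decide, v, by rw [hQv]; exact one_ne_zero, hstab _ hLb hLt hfix⟩))))))
  · have h2 : (2 : F) ≠ 0 := fun h2 => by
      have h3 := FiniteField.cast_card_eq_zero F
      rw [hq] at h3
      push_cast at h3
      exact one_ne_zero (α := F) (by linear_combination h3 - h2)
    refine Or.inr (Or.inl ⟨by rw [hq]; decide, _, hLb, hLt, by rw [hL1]; exact odd_one, by rw [hL1]; decide, nondegOn ?_,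
      hstab _ hLb hLt hfix⟩)
    refine (Submodule.eq_bot_iff _).mpr fun w hw => ?_
    obtain ⟨c, rfl⟩ := Submodule.mem_span_singleton.mp hw.1
    have h3 : polarBilin Q v (c • v) = 0 := hw.2 v (Submodule.mem_span_singleton_self v)
    rw [map_smul, quad_polar_self, hQv, mul_one, smul_eq_mul] at h3
    rw [(mul_eq_zero.mp h3).resolve_right h2, zero_smul]

end Cfsg.Agent.Lib.MinusTwelve
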