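import Cfsg.Agent.Lib.MinusTwelve.TensorFrame
import Cfsg.Agent.Lib.MinusTwelve.Proper
import Cfsg.Agent.Lib.OrthNine.Tensor

/-!
The homogeneous case in `Ω₁₂⁻(q)`: only the tensor product of forms in dimensions three and four, or three
isometric slices over three elements.
-/

set_option autoImplicit false
set_option linter.unusedSectionVars false
set_option linter.style.haveILetI false

namespace Cfsg.Agent.Lib.MinusTwelve

open Matrix Cfsg.Geo
open Cfsg.Agent.Lib
open Cfsg.Agent.Lib.MaxTensor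
open Cfsg.Agent.Lib.SympTwelve (formOfGram_eq_dot tens tens_injective kron_tens tens_smul dot_tens)
open Cfsg.Agent.Lib.Geometry (quad_add quad_smul quad_polar_self quad_polar_comm)
open QuadraticMap (polarBilin polarBilin_apply_apply)
open scoped MatrixGroups Matrix Kronecker

attribute [-simp] QuadraticMap.polarBilin_apply_apply

variable {F : Type*} [Field F] [Fintype F] {Q : QuadraticForm F (Fin 12 → F)}

local notation "V12" => (Fin 12 → F)
local notation "M12" => Matrix (Fin 12) (Fin 12) F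
local notation "G12" => Matrix.GeneralLinearGroup (Fin 12) F

theorem quad_sum_of_orth {κ : Type} (s : Finset κ) (f : κ → V12)
    (h : ∀ i ∈ s, ∀ j ∈ s, i ≠ j → polarBilin Q (f i) (f j) = 0) : Q (∑ i ∈ s, f i) = ∑ i ∈ s, Q (f i) := by
  classical
  induction s using Finset.induction with
  | empty => simp
  | insert a s ha ih =>
    rw [Finset.sum_insert ha, Finset.sum_insert ha, quad_add, _root_.map_sum (polarBilin Q (f a)),
      Finset.sum_eq_zero fun j hj => h a (Finset.mem_insert_self _ _) j (Finset.mem_insert_of_mem hj)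
        (fun e => ha (e ▸ hj)), add_zero,
      ih fun i hi j hj => h i (Finset.mem_insert_of_mem hi) j (Finset.mem_insert_of_mem hj)]

namespace TensorData

variable {a b : ℕ} {H : Subgroup (Matrix.GeneralLinearGroup (Fin 12) F)} (T : TensorData Q a b H)

theorem form_tens (t t' : Fin b → F) (u u' : Fin a → F) :
    polarBilin Q (T.L (tens t u)) (T.L (tens t' u')) = (u ⬝ᵥ T.Ga *ᵥ u') * (t ⬝ᵥ T.Gb *ᵥ t') := by
  rw [T.form, kron_tens, dot_tens]

/-- Exchange the factors. -/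
def swap (T : TensorData Q a b H) : TensorData Q b a H where
  L := (LinearEquiv.funCongrLeft F F (Equiv.prodComm (Fin a) (Fin b))).trans T.L
  Ga := T.Gb
  Gb := T.Ga
  hGa := T.hGb
  hGb := T.hGa
  ε := T.ε
  hε := T.hε
  symA := T.symB
  symB := T.symA
  form := fun x y => by
    show polarBilin Q (T.L (x ∘ Prod.swap)) (T.L (y ∘ Prod.swap)) = _
    rw [T.form, SympTwoPrime.kronecker_mulVec_swap]
    exact Fintype.sum_equiv (Equiv.prodComm _ _) _ _ fun p => rfl
  act := fun h hh => by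
    obtain ⟨C, D, hCD⟩ := T.act h hh
    refine ⟨D, C, fun x => ?_⟩
    show (h : M12) *ᵥ T.L (x ∘ Prod.swap) =
      T.L ((((D : Matrix (Fin b) (Fin b) F) ⊗ₖ (C : Matrix (Fin a) (Fin a) F)) *ᵥ x) ∘ Prod.swap)
    rw [hCD, SympTwoPrime.kronecker_mulVec_swap]

include T in
theorem pos_a : 0 < a := by
  rcases Nat.eq_zero_or_pos a with rfl | h
  · exfalso
    have h := T.L.finrank_eq
    simp at h
  · exact h

include T in
theorem pos_b : 0 < b := by
  rcases Nat.eq_zero_or_pos b with rfl | h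
  · exfalso
    have h := T.L.finrank_eq
    simp at h
  · exact h

theorem exists_pair_a : ∃ u u' : Fin a → F, u ⬝ᵥ T.Ga *ᵥ u' = 1 := by
  classical
  haveI : Nonempty (Fin a) := ⟨⟨0, T.pos_a⟩⟩
  obtain ⟨i, j, hij⟩ := PrimeDim.FormDescent.exists_ne_entry T.hGa
  refine ⟨Pi.single i 1, (T.Ga i j)⁻¹ • Pi.single j 1, ?_⟩
  simp [Matrix.mulVec_smul, Matrix.mulVec_single_one, hij]

theorem comm_b (hε : T.ε = 1) (x y : Fin b → F) : x ⬝ᵥ T.Gb *ᵥ y = y ⬝ᵥ T.Gb *ᵥ x := by
  rw [Matrix.dotProduct_mulVec, dotProduct_comm, ← Matrix.mulVec_transpose, T.symB, hε, one_smul]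

theorem nd_b {t : Fin b → F} (ht : ∀ x, t ⬝ᵥ T.Gb *ᵥ x = 0) : t = 0 := by
  have h0 : t ᵥ* T.Gb = 0 := dotProduct_eq_zero _ fun x => by rw [← Matrix.dotProduct_mulVec]; exact ht x
  exact Matrix.vecMul_injective_iff_isUnit.2 T.hGb (by simp only [h0, Matrix.zero_vecMul])

/-- The factors are similarities. -/
theorem act_form (hH : H ≤ Cfsg.isometryGroup F ⇑Q) {h : G12} (hh : h ∈ H) :
    ∃ (C : GL (Fin a) F) (D : GL (Fin b) F) (μ : F), μ ≠ 0 ∧
    (∀ x, (h : M12) *ᵥ T.L x = T.L (((C : Matrix (Fin a) (Fin a) F) ⊗ₖ (D : Matrix (Fin b) (Fin b) F)) *ᵥ x)) ∧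
    ∀ v w, ((D : Matrix (Fin b) (Fin b) F) *ᵥ v) ⬝ᵥ T.Gb *ᵥ ((D : Matrix (Fin b) (Fin b) F) *ᵥ w) =
      μ * (v ⬝ᵥ T.Gb *ᵥ w) := by
  obtain ⟨C, D, hCD⟩ := T.act h hh
  obtain ⟨u, u', hu⟩ := T.exists_pair_a
  set c := ((C : Matrix (Fin a) (Fin a) F) *ᵥ u) ⬝ᵥ T.Ga *ᵥ ((C : Matrix (Fin a) (Fin a) F) *ᵥ u') with hc
  have key : ∀ v w, c * (((D : Matrix (Fin b) (Fin b) F) *ᵥ v) ⬝ᵥ T.Gb *ᵥ ((D : Matrix (Fin b) (Fin b) F) *ᵥ w)) =
      v ⬝ᵥ T.Gb *ᵥ w := fun v w => by
    have hp := MaxSub.Orth.iso_polar (hH hh) (T.L (tens v u)) (T.L (tens w u'))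
    rw [hCD, hCD, kron_tens, kron_tens, T.form_tens, T.form_tens, hu, one_mul] at hp
    exact hp
  have hc0 : c ≠ 0 := by
    intro h0
    haveI : Nonempty (Fin b) := ⟨⟨0, T.pos_b⟩⟩
    obtain ⟨i, j, hij⟩ := PrimeDim.FormDescent.exists_ne_entry T.hGb
    have := key (Pi.single i 1) (Pi.single j 1)
    rw [h0, zero_mul] at this
    simp [Matrix.mulVec_single_one] at this
    exact hij this.symm
  exact ⟨C, D, c⁻¹, inv_ne_zero hc0, hCD, fun v w => by rw [← key v w, inv_mul_cancel_left₀ hc0]⟩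

/-- The slice attached to a vector of the second factor. -/
def slice (t : Fin b → F) : Submodule F V12 := LinearMap.range (T.L.toLinearMap ∘ₗ tens t)

theorem finrank_slice {t : Fin b → F} (ht : t ≠ 0) : Module.finrank F (T.slice t) = a := by
  rw [slice, LinearMap.finrank_range_of_inj (f := T.L.toLinearMap ∘ₗ tens t) (T.L.injective.comp (tens_injective ht)),
    Module.finrank_fintype_fun_eq_card, Fintype.card_fin]

theorem map_slice {h : G12} {C : GL (Fin a) F} {D : GL (Fin b) F}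
    (hCD : ∀ x, (h : M12) *ᵥ T.L x =
      T.L (((C : Matrix (Fin a) (Fin a) F) ⊗ₖ (D : Matrix (Fin b) (Fin b) F)) *ᵥ x))
    {t t' : Fin b → F} (ht : t ≠ 0) (ht' : t' ≠ 0) {ρ : F}
    (hD : (D : Matrix (Fin b) (Fin b) F) *ᵥ t = ρ • t') :
    (T.slice t).map (Matrix.toLin' (h : M12)) = T.slice t' := by
  refine Submodule.eq_of_le_of_finrank_eq ?_ ?_
  · rintro _ ⟨_, ⟨u, rfl⟩, rfl⟩
    refine ⟨ρ • ((C : Matrix (Fin a) (Fin a) F) *ᵥ u), ?_⟩
    show T.L (tens t' _) = Matrix.toLin' (h : M12) (T.L (tens t u))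
    rw [Matrix.toLin'_apply, hCD, kron_tens, hD, tens_smul]
  · have hinj : Function.Injective (Matrix.toLin' (h : M12)) := fun x y hxy => by
      have := congrArg (fun z => ((h⁻¹ : G12) : M12) *ᵥ z) hxy
      simpa [Matrix.toLin'_apply, Matrix.mulVec_mulVec] using this
    rw [← (Submodule.equivMapOfInjective _ hinj (T.slice t)).finrank_eq, T.finrank_slice ht, T.finrank_slice ht']

theorem slice_nd {t : Fin b → F} (ht : t ⬝ᵥ T.Gb *ᵥ t ≠ 0) : MaxSub.QuadType.Nd Q (T.slice t) := by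
  rintro _ ⟨u, rfl⟩ hw
  have hu : u ≠ 0 := fun h => hw (by rw [h, map_zero])
  obtain ⟨u', hu'⟩ : ∃ u' : Fin a → F, u ⬝ᵥ T.Ga *ᵥ u' ≠ 0 := by
    by_contra hc
    push Not at hc
    exact hu (T.swap.nd_b hc)
  exact ⟨_, ⟨u', rfl⟩, by
    show polarBilin Q (T.L (tens t u)) (T.L (tens t u')) ≠ 0
    rw [T.form_tens]; exact mul_ne_zero hu' ht⟩

theorem quad_slice (h2 : (2 : F) ≠ 0) (t : Fin b → F) (u : Fin a → F) :
    Q (T.L (tens t u)) = (u ⬝ᵥ T.Ga *ᵥ u) * (t ⬝ᵥ T.Gb *ᵥ t) / 2 := by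
  have h := T.form_tens t t u u
  rw [quad_polar_self] at h
  rw [eq_div_iff h2, ← h, mul_comm]

theorem plus_slice (h2 : (2 : F) ≠ 0) {t : Fin b → F} (ht : t ⬝ᵥ T.Gb *ᵥ t ≠ 0) :
    MaxSub.QuadType.Plus Q (T.slice t) ↔
      ∃ U₀ : Submodule F (Fin a → F), (∀ u ∈ U₀, u ⬝ᵥ T.Ga *ᵥ u = 0) ∧ 2 * Module.finrank F U₀ = a := by
  have ht0 : t ≠ 0 := fun h => ht (by rw [h, zero_dotProduct])
  have hinj : Function.Injective (T.L.toLinearMap ∘ₗ tens (a := a) t) := T.L.injective.comp (tens_injective ht0)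
  constructor
  · rintro ⟨U, hU, hts, hd⟩
    refine ⟨U.comap (T.L.toLinearMap ∘ₗ tens t), fun u hu => ?_, ?_⟩
    · have h : Q (T.L (tens t u)) = 0 := hts _ hu
      rw [T.quad_slice h2, div_eq_zero_iff] at h
      exact (mul_eq_zero.1 (h.resolve_right h2)).resolve_right ht
    · have hm : (U.comap (T.L.toLinearMap ∘ₗ tens t)).map (T.L.toLinearMap ∘ₗ tens t) = U :=
        Submodule.map_comap_eq_self hU
      rw [(Submodule.equivMapOfInjective _ hinj _).finrank_eq, hm, hd, T.finrank_slice ht0]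
  · rintro ⟨U₀, hts, hd⟩
    refine ⟨U₀.map (T.L.toLinearMap ∘ₗ tens t), LinearMap.map_le_range, ?_, ?_⟩
    · rintro _ ⟨u, hu, rfl⟩
      show Q (T.L (tens t u)) = 0
      rw [T.quad_slice h2, hts u hu, zero_mul, zero_div]
    · rw [← (Submodule.equivMapOfInjective _ hinj _).finrank_eq, hd, T.finrank_slice ht0]

/-- A slice fixed by the whole group contradicts irreducibility. -/
theorem not_invariant_slice (hirr : ActsIrreducibly (matrixSet H)) (ha : a < 12) {t : Fin b → F} (ht : t ≠ 0)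
    (h : ∀ h ∈ H, ∃ (C : GL (Fin a) F) (D : GL (Fin b) F) (ρ : F),
      (∀ x, ((h : G12) : M12) *ᵥ T.L x =
        T.L (((C : Matrix (Fin a) (Fin a) F) ⊗ₖ (D : Matrix (Fin b) (Fin b) F)) *ᵥ x)) ∧
      (D : Matrix (Fin b) (Fin b) F) *ᵥ t = ρ • t) : False := by
  have hW := T.finrank_slice ht
  have ha0 := T.pos_a
  rcases hirr (T.slice t) (by
    rintro _ ⟨g, hg, rfl⟩
    obtain ⟨C, D, ρ, hCD, hD⟩ := h g hg
    exact (T.map_slice hCD ht ht hD).le) with h0 | h0
  · rw [h0, finrank_bot] at hW; omega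
  · rw [h0, finrank_top, Module.finrank_fintype_fun_eq_card, Fintype.card_fin] at hW; omega

theorem sym_one (h2 : (2 : F) = 0) : T.ε = 1 := by
  have h : (T.ε - 1) * (T.ε - 1) = 0 := by linear_combination T.hε - (T.ε - 1) * h2
  exact sub_eq_zero.1 (mul_self_eq_zero.1 h)

/-- In characteristic two the second factor is alternating. -/
theorem alt_b (hirr : ActsIrreducibly (matrixSet H)) (hH : H ≤ Cfsg.isometryGroup F ⇑Q) (ha : a < 12)
    (h2 : (2 : F) = 0) : ∀ i, T.Gb i i = 0 := by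
  classical
  haveI : CharP F 2 := CharTwo.of_one_ne_zero_of_two_eq_zero one_ne_zero h2
  haveI : ExpChar F 2 := ExpChar.prime Nat.prime_two
  haveI : PerfectRing F 2 := PerfectRing.ofFiniteOfIsReduced 2 F
  by_contra hd
  push Not at hd
  have hsq : ∀ x y : F, x ^ 2 = y ^ 2 → x = y := fun x y h => (frobenius_inj F 2) h
  let w : Fin b → F := fun i => (frobeniusEquiv F 2).symm (T.Gb i i)
  have hr : ∀ i, w i ^ 2 = T.Gb i i := fun i => frobeniusEquiv_symm_pow_p F 2 _
  have hw : w ≠ 0 := fun h0 => by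
    obtain ⟨i, hi⟩ := hd
    exact hi (by rw [← hr, h0]; simp)
  have hdiag : ∀ v : Fin b → F, v ⬝ᵥ T.Gb *ᵥ v = (w ⬝ᵥ v) ^ 2 := by
    intro v
    simp only [dotProduct, Matrix.mulVec, Finset.mul_sum]
    rw [CharTwo.sum_sq, PrimeDim.FormDescent.sum_sym_diag h2 fun k l => by
      rw [show T.Gb l k = T.Gb k l by
        rw [← Matrix.transpose_apply T.Gb, T.symB, T.sym_one h2, one_smul]]
      ring]
    refine Finset.sum_congr rfl fun k _ => ?_
    rw [mul_pow, hr]; ring
  obtain ⟨U, hU⟩ := T.hGb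
  set z : Fin b → F := (↑U⁻¹ : Matrix (Fin b) (Fin b) F) *ᵥ w with hz
  have hGz : T.Gb *ᵥ z = w := by rw [hz, Matrix.mulVec_mulVec, ← hU, Units.mul_inv, Matrix.one_mulVec]
  have hz0 : z ≠ 0 := fun h => hw (by rw [← hGz, h, Matrix.mulVec_zero])
  refine T.not_invariant_slice hirr ha hz0 fun h hh => ?_
  obtain ⟨C, D, μ, hμ, hCD, hD⟩ := T.act_form hH hh
  set ν : F := (frobeniusEquiv F 2).symm μ
  have hν : ν ^ 2 = μ := frobeniusEquiv_symm_pow_p F 2 _
  have hwD : ∀ v, w ⬝ᵥ ((D : Matrix (Fin b) (Fin b) F) *ᵥ v) = ν * (w ⬝ᵥ v) := fun v => by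
    apply hsq
    rw [mul_pow, hν, ← hdiag, ← hdiag, hD]
  have hall : T.Gb *ᵥ ((D : Matrix (Fin b) (Fin b) F) *ᵥ z) = ν • w := by
    refine dotProduct_eq _ _ fun y => ?_
    obtain ⟨v, rfl⟩ : ∃ v, (D : Matrix (Fin b) (Fin b) F) *ᵥ v = y :=
      ⟨((D⁻¹ : GL (Fin b) F) : Matrix (Fin b) (Fin b) F) *ᵥ y, by
        rw [Matrix.mulVec_mulVec, Units.mul_inv, Matrix.one_mulVec]⟩
    rw [dotProduct_comm, hD, hGz, smul_dotProduct, smul_eq_mul, hwD, dotProduct_comm v w, ← hν]
    ring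
  refine ⟨C, D, ν, hCD, ?_⟩
  have := congrArg (fun x => (↑U⁻¹ : Matrix (Fin b) (Fin b) F) *ᵥ x) hall
  simp only [← hU, Matrix.mulVec_mulVec, Units.inv_mul_cancel_left, Matrix.mulVec_smul] at this
  exact this

/-- In characteristic two the form vanishes on pure tensors. -/
theorem quad_pure (hirr : ActsIrreducibly (matrixSet H)) (hH : H ≤ Cfsg.isometryGroup F ⇑Q) (ha : a < 12) (hb : b < 12)
    (h2 : (2 : F) = 0) (t : Fin b → F) (u : Fin a → F) : Q (T.L (tens t u)) = 0 := by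
  classical
  haveI : CharP F 2 := CharTwo.of_one_ne_zero_of_two_eq_zero one_ne_zero h2
  haveI : ExpChar F 2 := ExpChar.prime Nat.prime_two
  haveI : PerfectRing F 2 := PerfectRing.ofFiniteOfIsReduced 2 F
  have hb' := T.alt_b hirr hH ha h2
  have ha' : ∀ i, T.Ga i i = 0 := T.swap.alt_b hirr hH hb h2
  have halt : ∀ t : Fin b → F, t ⬝ᵥ T.Gb *ᵥ t = 0 := fun t => by
    simp only [dotProduct, Matrix.mulVec, Finset.mul_sum]
    rw [PrimeDim.FormDescent.sum_sym_diag h2 fun k l => by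
      rw [show T.Gb l k = T.Gb k l by rw [← Matrix.transpose_apply T.Gb, T.symB, T.sym_one h2, one_smul]]
      ring]
    exact Finset.sum_eq_zero fun k _ => by rw [hb']; ring
  let r : Fin a × Fin b → F := fun p => (frobeniusEquiv F 2).symm (Q (T.L (tens (Pi.single p.2 1) (Pi.single p.1 1))))
  have hr : ∀ p : Fin a × Fin b, r p ^ 2 = Q (T.L (tens (Pi.single p.2 1) (Pi.single p.1 1))) :=
    fun p => frobeniusEquiv_symm_pow_p F 2 _
  let ℓ : V12 →ₗ[F] F := (∑ p, r p • LinearMap.proj p) ∘ₗ T.L.symm.toLinearMap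
  have hℓ : ∀ x, ℓ (T.L x) = ∑ p, r p * x p := fun x => by
    simp [ℓ, LinearMap.sum_apply]
  have hpure : ∀ (t : Fin b → F) (u : Fin a → F), Q (T.L (tens t u)) = ℓ (T.L (tens t u)) ^ 2 := by
    intro t u
    have h1 : T.L (tens t u) = ∑ i, T.L (tens t (Pi.single i (u i))) := by
      rw [← map_sum T.L, ← map_sum (tens t), Finset.univ_sum_single]
    have h3 : ∀ i, Q (T.L (tens t (Pi.single i (u i)))) = ∑ j, (u i * t j) ^ 2 * r (i, j) ^ 2 := fun i => by
      have e : tens t (Pi.single i (u i)) = ∑ j, (u i * t j) • tens (Pi.single j 1) (Pi.single i 1) := by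
        funext p
        rw [Finset.sum_apply]
        show (Pi.single i (u i) : Fin a → F) p.1 * t p.2 =
          ∑ j, u i * t j * ((Pi.single i 1 : Fin a → F) p.1 * (Pi.single j 1 : Fin b → F) p.2)
        simp [Pi.single_apply]
      rw [e, map_sum, quad_sum_of_orth]
      · refine Finset.sum_congr rfl fun j _ => ?_
        rw [map_smul, quad_smul, hr]; ring
      · intro j _ l _ _
        simp only [map_smul, LinearMap.smul_apply, T.form_tens]
        simp [Matrix.mulVec_single_one, ha']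
    rw [h1, quad_sum_of_orth _ _ (fun i _ j _ _ => by rw [T.form_tens, halt, mul_zero]), Finset.sum_congr rfl fun i _ => h3 i,
      ← h1, hℓ, CharTwo.sum_sq, Fintype.sum_prod_type]
    refine Finset.sum_congr rfl fun i _ => Finset.sum_congr rfl fun j _ => ?_
    show _ = (r (i, j) * (u i * t j)) ^ 2
    ring
  have hinv : ∀ h ∈ H, ∀ v, ℓ ((h : M12) *ᵥ v) = ℓ v := by
    intro h hh v
    obtain ⟨C, D, hCD⟩ := T.act h hh
    obtain ⟨x, rfl⟩ := T.L.surjective v
    have hx : x = ∑ j, tens (Pi.single j (1 : F)) (fun i => x (i, j)) := by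
      funext p
      rw [Finset.sum_apply]
      show x p = ∑ j, x (p.1, j) * (Pi.single j (1 : F) : Fin b → F) p.2
      simp [Pi.single_apply]
    rw [hx, map_sum, Matrix.mulVec_sum, map_sum, map_sum]
    refine Finset.sum_congr rfl fun j _ => ?_
    refine (frobenius_inj F 2) ?_
    show ℓ _ ^ 2 = ℓ _ ^ 2
    have hq := MaxSub.Orth.iso_quad (hH hh) (T.L (tens (Pi.single j 1) fun i => x (i, j)))
    rw [hCD, kron_tens] at hq ⊢
    rw [← hpure, ← hpure]
    exact hq
  have hℓ0 : ℓ = 0 := by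
    rcases hirr (LinearMap.ker ℓ) (by
      rintro _ ⟨g, hg, rfl⟩ _ ⟨w, hw, rfl⟩
      rw [SetLike.mem_coe, LinearMap.mem_ker] at hw
      rw [LinearMap.mem_ker, Matrix.toLin'_apply, hinv g hg, hw]) with h0 | h0
    · exfalso
      have h := LinearMap.finrank_range_add_finrank_ker ℓ
      have h1 := Submodule.finrank_le (LinearMap.range ℓ)
      rw [h0, finrank_bot, Module.finrank_fintype_fun_eq_card, Fintype.card_fin] at h
      rw [Module.finrank_self] at h1
      omega
    · exact LinearMap.ker_eq_top.1 h0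
  rw [hpure, hℓ0, LinearMap.zero_apply]; ring

/-- No totally singular six-dimensional slice. -/
theorem six_false (hQ : Minus Q) (T : TensorData Q 6 b H) {t : Fin b → F} (ht : t ≠ 0)
    (hts : ∀ u, Q (T.L (tens t u)) = 0) : False :=
  hQ.no_ts_six (U := T.slice t) (by rintro _ ⟨u, rfl⟩; exact hts u) (T.finrank_slice ht).ge

theorem skew_value (T : TensorData Q a b H) (hε : T.ε = -1) (h2 : (2 : F) ≠ 0) (t : Fin b → F) :
    t ⬝ᵥ T.Gb *ᵥ t = 0 := by
  have h : t ⬝ᵥ T.Gb *ᵥ t = - (t ⬝ᵥ T.Gb *ᵥ t) := by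
    conv_lhs => rw [Matrix.dotProduct_mulVec, dotProduct_comm, ← Matrix.mulVec_transpose, T.symB, hε, neg_one_smul,
      Matrix.neg_mulVec, dotProduct_neg]
  exact (mul_eq_zero.1 (show (2 : F) * (t ⬝ᵥ T.Gb *ᵥ t) = 0 by linear_combination h)).resolve_left h2

/-- An orthogonal basis of the symmetric second factor. -/
theorem exists_orth (T : TensorData Q a b H) (hε : T.ε = 1) (h2 : (2 : F) ≠ 0) :
    ∃ t : Module.Basis (Fin b) F (Fin b → F),
      (∀ i j, i ≠ j → t i ⬝ᵥ T.Gb *ᵥ t j = 0) ∧ ∀ i, t i ⬝ᵥ T.Gb *ᵥ t i ≠ 0 := by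
  classical
  haveI : Invertible (2 : F) := invertibleOfNonzero h2
  obtain ⟨t, ht⟩ := LinearMap.BilinForm.exists_orthogonal_basis (V := Fin b → F) (K := F) (B := Matrix.toBilin' T.Gb)
    (LinearMap.isSymm_def.mpr fun u v => by
      simp only [Matrix.toBilin'_apply', RingHom.id_apply]; exact T.comm_b hε u v)
  let t' := t.reindex (finCongr (show Module.finrank F (Fin b → F) = b by simp))
  have hor : ∀ i j, i ≠ j → t' i ⬝ᵥ T.Gb *ᵥ t' j = 0 := fun i j hij => by
    rw [← Matrix.toBilin'_apply']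
    simp only [t', Module.Basis.reindex_apply]
    exact ht (fun h => hij ((finCongr _).symm.injective h))
  refine ⟨t', hor, fun i h0 => t'.ne_zero i (T.nd_b fun x => ?_)⟩
  rw [← t'.sum_repr x, Matrix.mulVec_sum, dotProduct_sum]
  refine Finset.sum_eq_zero fun j _ => ?_
  rw [Matrix.mulVec_smul, dotProduct_smul]
  rcases eq_or_ne i j with rfl | hij
  · rw [h0, smul_zero]
  · rw [hor i j hij, smul_zero]

/-- Dimensions two and six do not occur. -/
theorem two_six_false (hQ : Minus Q) (hirr : ActsIrreducibly (matrixSet H)) (hH : H ≤ Cfsg.isometryGroup F ⇑Q)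
    (T : TensorData Q 6 2 H) : False := by
  classical
  have ht : (Pi.single 0 1 : Fin 2 → F) ≠ 0 := by simp
  by_cases h2 : (2 : F) = 0
  · exact six_false hQ T ht fun u => T.quad_pure hirr hH (by norm_num) (by norm_num) h2 _ u
  rcases mul_self_eq_one_iff.1 T.hε with hε | hε
  swap
  · exact six_false hQ T ht fun u => by rw [T.quad_slice h2, skew_value T hε h2, mul_zero, zero_div]
  obtain ⟨t, hor, hne⟩ := exists_orth T hε h2
  have hperp : T.slice (t 1) ≤ MaxSub.QuadType.perp Q (T.slice (t 0)) := by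
    rintro _ ⟨u, rfl⟩ _ ⟨u', rfl⟩
    show polarBilin Q (T.L (tens _ u')) (T.L (tens _ u)) = 0
    rw [T.form_tens, hor 0 1 (by decide), mul_zero]
  have h0 := T.slice_nd (hne 0)
  have h1 := T.slice_nd (hne 1)
  have hinf : T.slice (t 0) ⊓ T.slice (t 1) = ⊥ := by
    refine (Submodule.eq_bot_iff _).2 fun x hx => ?_
    by_contra hx0
    obtain ⟨y, hy, hyx⟩ := h1 x hx.2 hx0
    exact hyx (hperp hy x hx.1)
  have htop : T.slice (t 0) ⊔ T.slice (t 1) = ⊤ := by
    refine Submodule.eq_top_of_finrank_eq ?_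
    have h := Submodule.finrank_sup_add_finrank_inf_eq (T.slice (t 0)) (T.slice (t 1))
    rw [hinf, finrank_bot, T.finrank_slice (t.ne_zero 0), T.finrank_slice (t.ne_zero 1)] at h
    rw [Module.finrank_fintype_fun_eq_card, Fintype.card_fin]
    omega
  have hs := (MaxSub.QuadAny.sup_iff Q hQ.nd h0 h1 hperp (by rw [T.finrank_slice (t.ne_zero 0)]; decide)
    (by rw [T.finrank_slice (t.ne_zero 1)]; decide)).mpr ((T.plus_slice h2 (hne 0)).trans (T.plus_slice h2 (hne 1)).symm)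
  rw [htop] at hs
  exact hQ.not_plus hs

/-- In dimensions three and four the forms are symmetric in odd characteristic, the second of minus type. -/
theorem three_four (hQ : Minus Q) (hirr : ActsIrreducibly (matrixSet H)) (hH : H ≤ Cfsg.isometryGroup F ⇑Q)
    (T : TensorData Q 4 3 H) :
    (2 : F) ≠ 0 ∧ T.ε = 1 ∧
      ¬ ∃ U₀ : Submodule F (Fin 4 → F), (∀ u ∈ U₀, u ⬝ᵥ T.Ga *ᵥ u = 0) ∧ 2 * Module.finrank F U₀ = 4 := by
  classical
  have hdet : T.Gb.det ≠ 0 := ((Matrix.isUnit_iff_isUnit_det _).1 T.hGb).ne_zero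
  have h2 : (2 : F) ≠ 0 := fun h2 => hdet (PrimeDim.FormDescent.det_alt_char_two h2 (by decide) _
    (by rw [T.symB, T.sym_one h2, one_smul]) (T.alt_b hirr hH (by norm_num) h2))
  have hε : T.ε = 1 := by
    refine (mul_self_eq_one_iff.1 T.hε).resolve_right fun hε => hdet ?_
    have h := congrArg Matrix.det T.symB
    rw [Matrix.det_transpose, Matrix.det_smul, Fintype.card_fin, hε] at h
    exact (mul_eq_zero.1 (show (2 : F) * T.Gb.det = 0 by linear_combination h)).resolve_left h2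
  refine ⟨h2, hε, ?_⟩
  rintro ⟨U₀, hts, hd⟩
  have hpol : ∀ u ∈ U₀, ∀ u' ∈ U₀, u ⬝ᵥ T.Ga *ᵥ u' = 0 := fun u hu u' hu' => by
    have h := hts _ (U₀.add_mem hu hu')
    rw [Matrix.mulVec_add, dotProduct_add, add_dotProduct, add_dotProduct, hts u hu, hts u' hu',
      show u' ⬝ᵥ T.Ga *ᵥ u = u ⬝ᵥ T.Ga *ᵥ u' from T.swap.comm_b hε u' u] at h
    exact (mul_eq_zero.1 (show (2 : F) * (u ⬝ᵥ T.Ga *ᵥ u') = 0 by linear_combination h)).resolve_left h2
  let Ψ : (Fin 3 → U₀) →ₗ[F] V12 :=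
    ∑ j, (T.L.toLinearMap ∘ₗ tens (Pi.single j 1)) ∘ₗ U₀.subtype ∘ₗ LinearMap.proj j
  have hΨ : ∀ f, Ψ f = ∑ j, T.L (tens (Pi.single j 1) (f j : Fin 4 → F)) := fun f => by
    simp [Ψ, LinearMap.sum_apply]
  have hinj : Function.Injective Ψ := (injective_iff_map_eq_zero _).2 fun f hf => by
    rw [hΨ, ← map_sum, LinearEquiv.map_eq_zero_iff] at hf
    funext j
    refine Subtype.ext (funext fun i => ?_)
    have := congrFun hf (i, j)
    rw [Finset.sum_apply] at this
    change ∑ l, (f l : Fin 4 → F) i * (Pi.single l (1 : F) : Fin 3 → F) j = _ at this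
    simpa [Pi.single_apply] using this
  refine hQ.no_ts_six (U := LinearMap.range Ψ) ?_ ?_
  · rintro _ ⟨f, rfl⟩
    have h : polarBilin Q (Ψ f) (Ψ f) = 0 := by
      rw [hΨ]
      simp only [map_sum, LinearMap.sum_apply, T.form_tens, hpol _ (f _).2 _ (f _).2, zero_mul,
        Finset.sum_const_zero]
    rw [quad_polar_self] at h
    exact (mul_eq_zero.1 h).resolve_left h2
  · rw [LinearMap.finrank_range_of_inj hinj, Module.finrank_pi_fintype]
    simp only [Finset.sum_const, Finset.card_univ, Fintype.card_fin, smul_eq_mul]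
    omega

end TensorData

open TensorData in
/-- The tensor square-free case: at least five elements. -/
theorem tensor_case (hQ : Minus Q) {H : Subgroup G12} (hH : IsMaximalIn (omegaGL ⇑Q) H)
    (hirr : ActsIrreducibly (matrixSet H)) (hq : Fintype.card F ≠ 3) (T : TensorData Q 4 3 H)
    (hproper : ∀ (e : Fin 12 ≃ Fin 3 × Fin 4) (P : G12), ¬ omegaGL ⇑Q ≤ tensorProductSubgroup 3 4 e P) :
    Cases Q H := by
  classical
  have hiso : H ≤ Cfsg.isometryGroup F ⇑Q := fun x hx => MaxSub.Orth.omegaGL_le_isometry (hH.1.le hx)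
  obtain ⟨h2, hε, hminus⟩ := three_four hQ hirr hiso T
  have hodd : Fintype.card F % 2 = 1 := FiniteField.odd_card_of_char_ne_two fun h => h2 (by
    haveI := ringChar.of_eq h
    exact CharTwo.two_eq_zero)
  have h5 : 5 ≤ Fintype.card F := by
    have := Fintype.one_lt_card (α := F)
    omega
  let S := T.swap
  obtain ⟨e, P, hP, hmem⟩ := SympTwoPrime.exists_tensor_frame S.L
  have hbil : ∀ {n : ℕ} (G : Matrix (Fin n) (Fin n) F), IsBilinearForm (fun v w : Fin n → F => v ⬝ᵥ G *ᵥ w) :=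
    fun G => ⟨fun x y v => by simp only [add_dotProduct], fun c x v => by simp only [smul_dotProduct, smul_eq_mul],
      fun v x y => by simp only [Matrix.mulVec_add, dotProduct_add],
      fun c v x => by simp only [Matrix.mulVec_smul, dotProduct_smul, smul_eq_mul]⟩
  have hsym : ∀ {a b : ℕ} (R : TensorData Q a b H), R.ε = 1 →
      IsSymmetricForm (fun v w : Fin b → F => v ⬝ᵥ R.Gb *ᵥ w) := fun R hR => by
    refine ⟨hbil _, R.comm_b hR, fun v hv => ?_⟩
    obtain ⟨x, hx⟩ : ∃ x, v ⬝ᵥ R.Gb *ᵥ x ≠ 0 := by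
      by_contra hc
      push Not at hc
      exact hv (R.nd_b hc)
    exact ⟨⟨x, by rw [R.comm_b hR]; exact hx⟩, x, hx⟩
  have hgr : ∀ {n : ℕ} (G : Matrix (Fin n) (Fin n) F), gramMatrix (fun v w : Fin n → F => v ⬝ᵥ G *ᵥ w) = G :=
    fun G => by ext i j; simp [gramMatrix, Matrix.mulVec_single_one]
  refine Or.inr (Or.inr (Or.inr (Or.inr (Or.inr (Or.inr (Or.inr (Or.inr (Or.inr (Or.inr (Or.inl
    ⟨Nat.odd_iff.2 hodd, h5, e, P, fun v w => v ⬝ᵥ S.Ga *ᵥ w, fun v w => v ⬝ᵥ S.Gb *ᵥ w,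
      hsym T hε, hsym S hε, ?_, ?_,
      PrimeDim.OrthProper.eq_inf_of_le hH (fun h hh => ?_) (hproper e P)⟩))))))))))
  · rintro ⟨U, -, hts, hd⟩
    exact hminus ⟨U, fun u hu => hts u hu, by rw [hd, finrank_top, Module.finrank_fintype_fun_eq_card, Fintype.card_fin]⟩
  · refine ⟨1, one_ne_zero, fun x y => ?_⟩
    rw [← polarBilin_apply_apply, hP, hP, S.form, one_mul, hgr, hgr, formOfGram_eq_dot]
  · obtain ⟨C, D, hCD⟩ := S.act h hh
    exact hmem h C D hCD

open TensorData in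
/-- Over three elements the group permutes three slices. -/
theorem slices_case (hQ : Minus Q) {H : Subgroup G12} (hH : IsMaximalIn (omegaGL ⇑Q) H)
    (hirr : ActsIrreducibly (matrixSet H)) (h3 : Fintype.card F = 3) (T : TensorData Q 4 3 H)
    (hproper : ∀ D : Fin 3 → Submodule F V12, IsMDecomposition 4 D → ¬ omegaGL ⇑Q ≤ decompositionStabilizer D) :
    Cases Q H := by
  classical
  have hiso : H ≤ Cfsg.isometryGroup F ⇑Q := fun x hx => MaxSub.Orth.omegaGL_le_isometry (hH.1.le hx)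
  obtain ⟨h2, hε, hminus⟩ := three_four hQ hirr hiso T
  obtain ⟨R, c, hc, hR, hg⟩ := OrthNine.Tensor.exists_scalar_frame h2 T.Gb (by rw [T.symB, hε, one_smul])
    ((Matrix.isUnit_iff_isUnit_det _).1 T.hGb).ne_zero
  set t : Fin 3 → Fin 3 → F := fun i r => R r i with htdef
  have ht : ∀ i j, t i ⬝ᵥ T.Gb *ᵥ t j = if i = j then c else 0 := fun i j => by
    have h := congrFun (congrFun hg i) j
    rw [Matrix.smul_apply, Matrix.one_apply, smul_eq_mul, mul_ite, mul_one, mul_zero] at h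
    rw [← h, Matrix.dotProduct_mulVec, Matrix.mul_apply]
    rfl
  have htc : ∀ i, t i ⬝ᵥ T.Gb *ᵥ t i = c := fun i => by rw [ht, if_pos rfl]
  have ht0 : ∀ i, t i ≠ 0 := fun i h => hc (by rw [← htc i, h, zero_dotProduct])
  obtain ⟨U, hU⟩ : IsUnit R := (Matrix.isUnit_iff_isUnit_det _).2 hR.isUnit
  have hexp : ∀ x : Fin 3 → F, x = ∑ i, (((↑U⁻¹ : Matrix (Fin 3) (Fin 3) F) *ᵥ x) i) • t i := fun x => by
    conv_lhs => rw [← Matrix.one_mulVec x, ← Units.mul_inv U, ← Matrix.mulVec_mulVec, hU]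
    funext l
    simp [Matrix.mulVec, dotProduct, Finset.sum_apply, htdef, mul_comm]
  set Dd : Fin 3 → Submodule F V12 := fun i => T.slice (t i) with hDd
  have hnd : ∀ i, MaxSub.QuadType.Nd Q (Dd i) := fun i => T.slice_nd (by rw [htc]; exact hc)
  have horth : ∀ i j, i ≠ j → ∀ x ∈ Dd i, ∀ y ∈ Dd j, polarBilin Q x y = 0 := by
    rintro i j hij _ ⟨u, rfl⟩ _ ⟨u', rfl⟩
    show polarBilin Q (T.L (tens (t i) u)) (T.L (tens (t j) u')) = 0
    rw [T.form_tens, ht, if_neg hij, mul_zero]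
  have hdec : IsMDecomposition 4 Dd := by
    refine ⟨by norm_num, by norm_num, fun i => T.finrank_slice (ht0 i), ?_, ?_⟩
    · intro i
      rw [disjoint_iff, eq_bot_iff]
      intro x hx
      obtain ⟨hxi, hxr⟩ := Submodule.mem_inf.1 hx
      rw [Submodule.mem_bot]
      by_contra hx0
      obtain ⟨y, hy, hyx⟩ := hnd i x hxi hx0
      have hle : ⨆ (j : Fin 3) (_ : j ≠ i), Dd j ≤ LinearMap.ker (polarBilin Q y) :=
        iSup₂_le fun j hj w hw => by
          rw [LinearMap.mem_ker]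
          exact horth i j (Ne.symm hj) y hy w hw
      apply hyx
      rw [quad_polar_comm]
      exact hle hxr
    · rw [eq_top_iff]
      intro v _
      obtain ⟨x, rfl⟩ := T.L.surjective v
      have hx : x = ∑ i, tens (t i) (fun r => ((↑U⁻¹ : Matrix (Fin 3) (Fin 3) F) *ᵥ fun j => x (r, j)) i) := by
        funext p
        have := congrFun (hexp fun j => x (p.1, j)) p.2
        rw [Finset.sum_apply]
        simp only [Finset.sum_apply, Pi.smul_apply, smul_eq_mul] at this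
        exact this
      rw [hx, map_sum]
      exact Submodule.sum_mem _ fun i _ => Submodule.mem_iSup_of_mem i ⟨_, rfl⟩
  have hsq3 : ∀ x : F, x ≠ 0 → x * x = 1 := fun x hx => by
    have h := FiniteField.pow_card_sub_one_eq_one x hx
    rw [h3] at h
    rw [← h]; ring
  have hle : H ≤ decompositionStabilizer Dd := by
    intro h hh
    obtain ⟨C, D, μ, hμ, hCD, hD⟩ := T.act_form hiso hh
    set d : Fin 3 → Fin 3 → F := fun i => (↑U⁻¹ : Matrix (Fin 3) (Fin 3) F) *ᵥ ((D : Matrix (Fin 3) (Fin 3) F) *ᵥ t i)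
    have hDt : ∀ i, (D : Matrix (Fin 3) (Fin 3) F) *ᵥ t i = ∑ l, d i l • t l := fun i => hexp _
    have hcol : ∀ i j, d i ⬝ᵥ d j = if i = j then μ else 0 := by
      intro i j
      have h := hD (t i) (t j)
      rw [hDt i, hDt j, Matrix.mulVec_sum, sum_dotProduct, ht] at h
      simp only [dotProduct_sum, smul_dotProduct, Matrix.mulVec_smul, dotProduct_smul, smul_eq_mul, ht, mul_ite,
        mul_zero, Finset.sum_ite_eq, Finset.mem_univ, if_true] at h
      refine mul_right_cancel₀ hc ?_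
      rw [ite_mul, zero_mul, ← h]
      simp only [dotProduct, Finset.mul_sum, Finset.sum_mul]
      exact Finset.sum_congr rfl fun l _ => by ring
    have hμ1 : μ = 1 := by
      let N : Matrix (Fin 3) (Fin 3) F := Matrix.of d
      have hN : N * Nᵀ = μ • 1 := by
        ext i j
        rw [Matrix.smul_apply, Matrix.one_apply, smul_eq_mul, mul_ite, mul_one, mul_zero]
        exact hcol i j
      have h := congrArg Matrix.det hN
      rw [Matrix.det_mul, Matrix.det_transpose, Matrix.det_smul, Matrix.det_one, mul_one, Fintype.card_fin] at h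
      have hdN : N.det ≠ 0 := fun h0 => by rw [h0, mul_zero] at h; exact pow_ne_zero _ hμ h.symm
      linear_combination (hsq3 _ hdN) - h - μ * (hsq3 _ hμ)
    simp only [hμ1] at hcol
    choose σ hσ hσ0 using fun i => SympTwoPrime.monomial_three h3 (d i) (by rw [hcol, if_pos rfl])
    have hσinj : Function.Injective σ := by
      intro i j hij
      by_contra hne
      have h := hcol i j
      rw [if_neg hne, dotProduct, Finset.sum_eq_single (σ i) (fun l _ hl => by rw [hσ0 i l hl, zero_mul])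
        (fun hn => absurd (Finset.mem_univ _) hn)] at h
      rcases mul_eq_zero.1 h with h | h
      · exact hσ i h
      · exact hσ j (hij ▸ h)
    refine ⟨Equiv.ofBijective σ (Finite.injective_iff_bijective.1 hσinj), fun i => ?_⟩
    rw [Equiv.ofBijective_apply]
    refine T.map_slice hCD (ht0 i) (ht0 _) (ρ := d i (σ i)) ?_
    rw [hDt i, Finset.sum_eq_single (σ i) (fun l _ hl => by rw [hσ0 i l hl, zero_smul])
      (fun hn => absurd (Finset.mem_univ _) hn)]
  have hminD : ∀ i, ¬ IsPlusTypeOn ⇑Q (Dd i) := fun i h =>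
    hminus ((T.plus_slice h2 (by rw [htc]; exact hc)).1 h)
  refine Or.inr (Or.inr (Or.inr (Or.inr (Or.inr (Or.inr (Or.inr (Or.inl
    ⟨Dd, ⟨⟨hdec, fun i w hw hw0 => ?_, fun i j hij u hu v hv => ?_⟩, fun i j => ?_⟩, hminD,
      PrimeDim.OrthProper.eq_inf_of_le hH hle (hproper Dd hdec)⟩)))))))
  · obtain ⟨y, hy, hyw⟩ := hnd i w hw hw0
    refine ⟨⟨y, hy, ?_⟩, y, hy, ?_⟩
    · rw [← polarBilin_apply_apply, quad_polar_comm]; exact hyw
    · rw [← polarBilin_apply_apply]; exact hyw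
  · rw [← polarBilin_apply_apply]
    exact horth i j hij u hu v hv
  · have hinj : ∀ i, Function.Injective (T.L.toLinearMap ∘ₗ tens (a := 4) (t i)) := fun i =>
      T.L.injective.comp (tens_injective (ht0 i))
    refine ⟨(LinearEquiv.ofInjective _ (hinj i)).symm.trans (LinearEquiv.ofInjective _ (hinj j)), fun w => ?_⟩
    obtain ⟨u, rfl⟩ := (LinearEquiv.ofInjective _ (hinj i)).surjective w
    show Q ((LinearEquiv.ofInjective _ (hinj j)) ((LinearEquiv.ofInjective _ (hinj i)).symm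
      ((LinearEquiv.ofInjective _ (hinj i)) u)) : V12) = _
    rw [LinearEquiv.symm_apply_apply]
    show Q (T.L (tens (t j) u)) = Q (T.L (tens (t i) u))
    rw [T.quad_slice h2, T.quad_slice h2, htc, htc]

/-- The homogeneous case. -/
theorem tensor_cases (hQ : Minus Q) {H N : Subgroup G12} (hH : IsMaximalIn (omegaGL ⇑Q) H)
    (hirr : ActsIrreducibly (matrixSet H)) (hN : N ≤ H) (hNG : ∀ g ∈ H, ∀ x ∈ N, g * x * g⁻¹ ∈ N) {d k : ℕ}
    (hdk : d * k = 12) (hd : 1 < d) (hk : 1 < k) (A : N → Matrix (Fin d) (Fin d) F)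
    (hAirr : ∀ U : Submodule F (Fin d → F), (∀ n, ∀ u ∈ U, A n *ᵥ u ∈ U) → U = ⊥ ∨ U = ⊤)
    (hAscal : ∀ M : Matrix (Fin d) (Fin d) F, (∀ n, M * A n = A n * M) → ∃ c : F, M = c • 1)
    (φ : Fin k → (Fin d → F) →ₗ[F] V12)
    (hequiv : ∀ j (n : N) x, ((n : G12) : M12) *ᵥ φ j x = φ j (A n *ᵥ x))
    (hbij : Function.Bijective (assemble φ)) : Cases Q H := by
  have hpT := fun e P => not_le_tensorProductSubgroup hQ e P
  have hpD := fun (D : Fin 3 → Submodule F V12) (hD : IsMDecomposition 4 D) => not_le_decompositionStabilizer hQ hD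
  have hiso : H ≤ Cfsg.isometryGroup F ⇑Q := fun x hx => MaxSub.Orth.omegaGL_le_isometry (hH.1.le hx)
  obtain ⟨T⟩ := exists_tensorData hQ hiso hN hNG hdk hd hk A hAirr hAscal φ hequiv hbij
  have key : ∀ T : TensorData Q 4 3 H, Cases Q H := fun T => by
    by_cases hq : Fintype.card F = 3
    · exact slices_case hQ hH hirr hq T hpD
    · exact tensor_case hQ hH hirr hq T hpT
  have hd12 : d ≤ 12 := Nat.le_of_dvd (by norm_num) ⟨k, hdk.symm⟩
  interval_cases d
  · obtain rfl : k = 6 := by omega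
    exact (TensorData.two_six_false hQ hirr hiso T.swap).elim
  · obtain rfl : k = 4 := by omega
    exact key T.swap
  · obtain rfl : k = 3 := by omega
    exact key T
  all_goals first
    | omega
    | (obtain rfl : k = 2 := by omega
       exact (TensorData.two_six_false hQ hirr hiso T).elim)

end Cfsg.Agent.Lib.MinusTwelve
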